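import Groth.Agent.StFib.BGAtlas.Action
import Groth.Agent.StFib.BGMono
import Groth.Agent.StFib.DescCriteria
import Groth.Agent.StFib.RatLift.Param
import Groth.Agent.StFib.Fibre2

/-!
# Quotients by free actions over the classifying stack
-/

set_option autoImplicit false
set_option linter.unusedVariables false
set_option backward.isDefEq.respectTransparency false
set_option backward.isDefEq.respectTransparency.types false

universe u

open CategoryTheory CategoryTheory.Limits AlgebraicGeometry Opposite FibCat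
open MonoidalCategory CartesianMonoidalCategory MonObj

noncomputable section

namespace Groth.Agent.StFib.BGAtlas

variable {S : Scheme.{u}} {G X : Over S} [GrpObj G] (aX : AlgGrp.Action G X)

local notation "Kf" => Scheme.fppfPrecoverage
local notation "QX" => AlgSt.QuotSt Scheme.fppfPrecoverage G aX

/-- Forgetting the equivariant morphism. -/
def toBG : AlgSt.QuotSt Scheme.fppfPrecoverage G aX ⥤ᵇ AlgSt.BG Scheme.fppfPrecoverage G where
  toFunctor :=
    { obj := fun A =>
        { base := A.base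
          P := A.P
          act := A.act
          π := A.π
          cart := A.cart
          loc := A.loc
          φ := toUnit A.P
          eqv := toUnit_unique _ _ }
      map := fun {A B} f =>
        { base := f.base
          top := f.top
          eqv := f.eqv
          cart := f.cart
          wφ := toUnit_unique _ _ }
      map_id := fun A => AlgSt.QuotObj.hom_ext rfl rfl
      map_comp := fun f g => AlgSt.QuotObj.hom_ext rfl rfl }
  w := rfl

instance : (toBG aX).toFunctor.Faithful :=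
  ⟨fun {A B} f g h => AlgSt.QuotObj.hom_ext (congrArg (fun k => k.base) h :)
    (congrArg (fun k => k.top) h :)⟩

theorem isFibSetoid_of_free [IsAffineHom G.hom] (h : IsFree aX) : IsFibSetoid (QX).p := by
  have hg : IsFibGrpd (QX).p := (QuotBr.isStack (aX := aX)).1
  refine (isFibSetoid_iff_aut hg).2 fun A φ hφ _ => AlgSt.QuotObj.hom_ext hφ ?_
  have hb : φ.base = 𝟙 A.base := hφ
  have hw : φ.top ≫ A.π = A.π := φ.cart.w.trans (by rw [hb, Category.comp_id])
  let k := A.cart.lift φ.top (𝟙 A.P) (by rw [hw, Category.id_comp])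
  have h1 : k ≫ A.act.act = φ.top := A.cart.lift_fst _ _ _
  have h2 : k ≫ snd G A.P = 𝟙 A.P := A.cart.lift_snd _ _ _
  have e : k = lift (k ≫ fst G A.P) (𝟙 A.P) :=
    CartesianMonoidalCategory.hom_ext _ _ (lift_fst _ _).symm (h2.trans (lift_snd _ _).symm)
  have h3 : lift (k ≫ fst G A.P) A.φ ≫ aX.act = lift (1 : A.P ⟶ G) A.φ ≫ aX.act := by
    rw [QuotTriv.act_one]
    have := φ.wφ
    rw [← h1, Category.assoc, A.eqv, e, lift_whiskerLeft_assoc, Category.id_comp] at this
    exact this
  rw [← h1, e, h _ _ _ h3, QuotTriv.act_one]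
  rfl

/-- The section of the quotient. -/
abbrev secQ : overCat X ⥤ᵇ AlgSt.QuotSt Scheme.fppfPrecoverage G aX :=
  BasedFunctor.comp (AlgSt.ofOverCat X) (AlgSt.quotMap Scheme.fppfPrecoverage G aX)

/-- The map to the final scheme over the base. -/
abbrev toT₀ (X : Over S) : X ⟶ Over.mk (𝟙 S) := Over.homMk X.hom (Category.comp_id _)

theorem exists_secQ_iso (X : Over S) (aX : AlgGrp.Action G X) :
    ∃ e : BasedFunctor.comp (AlgSt.overMap (toT₀ X)) (BGMono.secBG G) ≅ BasedFunctor.comp (secQ aX) (toBG aX),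
      ∀ w, (isoApp e w).hom.base = 𝟙 w.left ∧ (isoApp e w).hom.top = 𝟙 (G ⊗ w.left) := by
  let c : ∀ w : (overCat X).obj,
      (BasedFunctor.comp (AlgSt.overMap (toT₀ X)) (BGMono.secBG G)).obj w ≅
        (BasedFunctor.comp (secQ aX) (toBG aX)).obj w := fun w =>
    { hom :=
        { base := 𝟙 w.left
          top := 𝟙 (G ⊗ w.left)
          eqv := by
            change (AlgSt.leftMul G w.left).act ≫ 𝟙 _ = (G ◁ 𝟙 (G ⊗ w.left)) ≫ (AlgSt.leftMul G w.left).act
            rw [Category.comp_id, MonoidalCategory.whiskerLeft_id, Category.id_comp]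
          cart :=
            have : IsIso (𝟙 (G ⊗ w.left)) := IsIso.id _
            have : IsIso (𝟙 w.left) := IsIso.id _
            IsPullback.of_horiz_isIso ⟨by
              change 𝟙 (G ⊗ w.left) ≫ snd G w.left = snd G w.left ≫ 𝟙 w.left
              simp⟩
          wφ := toUnit_unique _ _ }
      inv :=
        { base := 𝟙 w.left
          top := 𝟙 (G ⊗ w.left)
          eqv := by
            change (AlgSt.leftMul G w.left).act ≫ 𝟙 _ = (G ◁ 𝟙 (G ⊗ w.left)) ≫ (AlgSt.leftMul G w.left).act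
            rw [Category.comp_id, MonoidalCategory.whiskerLeft_id, Category.id_comp]
          cart :=
            have : IsIso (𝟙 (G ⊗ w.left)) := IsIso.id _
            have : IsIso (𝟙 w.left) := IsIso.id _
            IsPullback.of_horiz_isIso ⟨by
              change 𝟙 (G ⊗ w.left) ≫ snd G w.left = snd G w.left ≫ 𝟙 w.left
              simp⟩
          wφ := toUnit_unique _ _ }
      hom_inv_id := AlgSt.QuotObj.hom_ext (Category.id_comp _) (Category.id_comp _)
      inv_hom_id := AlgSt.QuotObj.hom_ext (Category.id_comp _) (Category.id_comp _) }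
  refine ⟨isoMk c (fun w => ⟨rfl, rfl⟩) fun {a b} φ => AlgSt.QuotObj.hom_ext
    ((Category.comp_id _).trans (Category.id_comp _).symm) ((Category.comp_id _).trans (Category.id_comp _).symm),
    fun w => ⟨rfl, rfl⟩⟩

variable [IsAffineHom G.hom]

theorem isEquivOver_square :
    ∃ T : overCat X ⥤ᵇ fp (BGMono.secBG G) (toBG aX), IsEquivOver T ∧
      Nonempty (BasedFunctor.comp T (fpFst (BGMono.secBG G) (toBG aX)) ≅ AlgSt.overMap (toT₀ X)) := by
  obtain ⟨e, he⟩ := exists_secQ_iso X aX
  refine ⟨fpLift (AlgSt.overMap (toT₀ X)) (secQ aX) e, ?_, ⟨Iso.refl _⟩⟩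
  refine fpLift_isEquivOver_mk (AlgSt.overMap (toT₀ X)) (secQ aX) e (fun {w w'} φ ψ h _ => ?_)
    (fun {w w'} a b hab => ?_) (fun z => ?_)
  · exact Over.OverMorphism.ext (congrArg (fun k => k.left) h :)
  · obtain ⟨g, hg, htop⟩ := QuotTriv.exists_pt b
    have hbase := congrArg (fun k => k.base) hab
    have htop' := congrArg (fun k => k.top) hab
    change a.left ≫ (isoApp e w').hom.base = (isoApp e w).hom.base ≫ b.base at hbase
    change (G ◁ a.left) ≫ (isoApp e w').hom.top = (isoApp e w).hom.top ≫ b.top at htop'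
    erw [(he w').1, (he w).1, Category.comp_id, Category.id_comp] at hbase
    erw [(he w').2, (he w).2, Category.comp_id, Category.id_comp, htop] at htop'
    change G ◁ a.left = lift (fst G w.left * (snd G w.left ≫ g)) (snd G w.left ≫ b.base) at htop'
    have hg1 : (1 : w.left ⟶ G) = g := by
      have := congrArg (fun t => lift (1 : w.left ⟶ G) (𝟙 w.left) ≫ t ≫ fst G w'.left) htop'
      have key : ∀ (k b' : w.left ⟶ w'.left), (G ◁ k) =
          lift (fst G w.left * (snd G w.left ≫ g)) (snd G w.left ≫ b') → (1 : w.left ⟶ G) = g := fun k b' hk => by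
        have := congrArg (fun t => lift (1 : w.left ⟶ G) (𝟙 w.left) ≫ t ≫ fst G w'.left) hk
        simpa only [Category.assoc, whiskerLeft_fst, lift_fst, comp_mul, lift_snd_assoc, Category.id_comp,
          _root_.one_mul] using this
      exact key a.left b.base htop'
    rw [← hg1, QuotTriv.act_one] at hg
    refine ⟨Over.homMk a.left ?_, Over.OverMorphism.ext rfl, AlgSt.QuotObj.hom_ext hbase (htop'.trans htop.symm)⟩
    rw [hbase]
    exact hg
  · obtain ⟨⟨t, A, m⟩, hz⟩ := z
    obtain ⟨s, hsπ, -, htop⟩ := QuotTriv.exists_sec (K := Scheme.fppfPrecoverage) (aX := AlgSt.trivAction G)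
      (a := (AlgSt.ofOverCat _).obj ((Over.mk t.hom : Over _))) (A := (toBG aX).obj A) m.hom
    have hmv : Vert m.hom := vert_of_isHomLift hz
    let w : (overCat X).obj := Over.mk (s ≫ A.φ)
    let a : (AlgSt.overMap (toT₀ X)).obj w ≅ t :=
      Over.isoMk (Iso.refl _) (by
        change 𝟙 _ ≫ t.hom = _
        exact Over.mkIdTerminal.hom_ext _ _)
    let b₀ : (secQ aX).obj w ⟶ A := QuotTriv.homTriv _ A m.hom.base s hsπ rfl
    have hbv : Vert b₀ := ⟨hmv.1, hmv.2⟩
    haveI : IsIso b₀ := hbv.isIso (QuotBr.isStack (aX := aX)).1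
    refine ⟨w, a, asIso b₀, ⟨rfl, rfl⟩, AlgSt.QuotObj.hom_ext ?_ ?_⟩
    · change 𝟙 t.left ≫ m.hom.base = (isoApp e w).hom.base ≫ m.hom.base
      rw [(he w).1]
      rfl
    · change (G ◁ 𝟙 t.left) ≫ m.hom.top = (isoApp e w).hom.top ≫ (G ◁ s) ≫ A.act.act
      rw [(he w).2, htop, MonoidalCategory.whiskerLeft_id]
      rfl

variable [Flat G.hom] [LocallyOfFinitePresentation G.hom]

/-- A surjective, flat, lfp morphism of spaces. -/
abbrev fppfMor : MorphismProperty (AlgSp.Sp S) :=
  AlgSp.IsSurjectiveMor ⊓ AlgSp.LocP @Flat ⊓ AlgSp.LocP @LocallyOfFinitePresentation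

theorem repByAlgSpWith_secQ : AlgSt.RepByAlgSpWith fppfMor (secQ aX) := by
  have hB : IsFibGrpd (QX).p := (QuotBr.isStack (aX := aX)).1
  have hg := good_surjective (S := S)
  have hgf := good_locP (S := S) Groth.Agent.AlgSpCov.standard_flat
  have hgl := good_locP (S := S) Groth.Agent.AlgSpCov.standard_locallyOfFinitePresentation
  have h1 : AlgSt.RepByAlgSpWith (AlgSp.LocP @Flat) (secQ aX) :=
    QuotBr.repByAlgSpWith_quotMap' hgf.bc (fppfLocal_of_fpqc (Groth.Agent.S10530.result S))
      (QuotBr.locP_hom Groth.Agent.AlgSpCov.etaleLocal_flat inferInstance)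
  have h2 : AlgSt.RepByAlgSpWith (AlgSp.LocP @LocallyOfFinitePresentation) (secQ aX) :=
    QuotBr.repByAlgSpWith_quotMap' hgl.bc (fppfLocal_of_fpqc (Groth.Agent.S10527.result S))
      (QuotBr.locP_hom Groth.Agent.AlgSpCov.etaleLocal_locallyOfFinitePresentation inferInstance)
  have h3 : AlgSt.RepByAlgSpWith AlgSp.IsSurjectiveMor (secQ aX) :=
    QuotBr.repByAlgSpWith_quotMap' good_surjective.bc SliceDM.fppfLocal_surjective SpTors.surjective_hom
  exact repByAlgSpWith_inf (isFibGrpd_overCat _) hB (hg.inf hgf) hgl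
    (repByAlgSpWith_inf (isFibGrpd_overCat _) hB hg hgf h3 h1) h2

theorem repByAlgSp_of_free (h : IsFree aX) : AlgSt.RepByAlgSp QX :=
  BGMono.repByAlgSp_of_fppf_cover (isFibSetoid_of_free aX h) QuotBr.isStack (repByAlgSp_overCat X) (secQ aX)
    (repByAlgSpWith_secQ aX)

theorem repByAlgSp1_secBG : AlgSt.RepByAlgSp1 (BGMono.secBG G) :=
  repByAlgSp1_of_with (repByAlgSpWith_secQ (AlgSt.trivAction G))

theorem repByAlgSp1_toBG : AlgSt.RepByAlgSp1 (toBG aX) := fun U y => by
  have hQ : Stk.IsStack (AlgSp.J S) QX := QuotBr.isStack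
  have hB : Stk.IsStack (AlgSp.J S) (AlgSt.BG Kf G) := BGMono.isStack_BG G
  have hgs : IsFibSetoid (fp y (toBG aX)).p := isFibSetoid_fp y _ (isFibSetoid_overCat U) hQ.1 hB.1
  have hst : Stk.IsStack (AlgSp.J S) (fp y (toBG aX)) :=
    isStack_fp _ y _ (isStack_overCat_fppf U) hQ (isPrestack_of_isStack hB)
  obtain ⟨e, -⟩ := exists_secQ_iso X aX
  have hom : AlgSt.RepByAlgSpWith (⊤ : MorphismProperty (AlgSp.Sp S)) (AlgSt.overMap (toT₀ X)) :=
    (repByAlgSpWith_iff_of_equiv _ (AlgSt.toOverCat X) (AlgSt.toOverCat (Over.mk (𝟙 S)))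
      (toOverCat_isEquivOver X) (toOverCat_isEquivOver _) (toOverCatIso (toT₀ X))).2
      (repByAlgSpWith_ofSpMap (fun _ _ _ _ _ _ _ _ _ _ _ _ _ _ => trivial) (isAlgSpace_yon X) (isAlgSpace_yon _) _
        trivial)
  have hcomp : AlgSt.RepByAlgSp1 (BasedFunctor.comp (AlgSt.overMap (toT₀ X)) (BGMono.secBG G)) :=
    repByAlgSp1_of_with (repByAlgSpWith_comp (P := ⊤) (fun _ _ _ _ _ _ _ _ _ _ _ _ _ _ => trivial)
      (fun _ _ _ _ _ _ _ _ _ _ => trivial) (fun _ _ _ _ _ _ => trivial) (isFibGrpd_overCat _) (isFibGrpd_overCat _)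
      hom (repByAlgSp1_iff_with_top.1 repByAlgSp1_secBG))
  obtain ⟨C, hC, -, -⟩ := exists_fp_congr (F := y) (F' := y)
    (G := BasedFunctor.comp (AlgSt.overMap (toT₀ X)) (BGMono.secBG G))
    (G' := BasedFunctor.comp (secQ aX) (toBG aX)) (Iso.refl _) e.symm
  let R := fpMap (F := y) (G := toBG aX) (F' := y) (G' := BasedFunctor.comp (secQ aX) (toBG aX))
    (BasedFunctor.id _) (secQ aX) (BasedFunctor.id _) (Iso.refl _) (Iso.refl _)
  exact BGMono.repByAlgSp_of_fppf_cover hgs hst (hcomp U y) (BasedFunctor.comp C R)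
    (repByAlgSpWith_comp_isEquivOver (repByAlgSpWith_fpMap_right _ (repByAlgSpWith_secQ aX) y (toBG aX)) hC)

theorem repByAlgSpWith_toBG {P : MorphismProperty (AlgSp.Sp S)} (hbc : StableBC P)
    (hloc : AlgSp.IsLocalOnBase AlgSp.IsFppfCover P)
    (hP : AlgSt.RepByAlgSpWith P (AlgSt.overMap (toT₀ X))) : AlgSt.RepByAlgSpWith P (toBG aX) := by
  have hg := good_surjective (S := S)
  have hz := repByAlgSpWith_secQ (AlgSt.trivAction G)
  refine (repByAlgSpWith_iff_fpFst_cover hbc hloc (BGMono.isStack_BG G).1 (isFibGrpd_overCat _)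
    (repByAlgSp1_toBG aX) (z := BGMono.secBG G)
    (repByAlgSpWith_mono hz fun _ _ _ h => h.1.2) (repByAlgSpWith_mono hz fun _ _ _ h => h.2)
    (repByAlgSpWith_mono hz fun _ _ _ h => h.1.1)).2 ?_
  obtain ⟨T, hT, ⟨i⟩⟩ := isEquivOver_square aX
  exact (repByAlgSpWith_iff_of_equiv P T (BasedFunctor.id _) hT (isEquivOver_id _)
    (f := fpFst (BGMono.secBG G) (toBG aX)) (f' := AlgSt.overMap (toT₀ X)) i.symm).2 hP

theorem isAlgStack_BG : AlgSt.IsAlgStack Kf (AlgSt.BG Kf G) := by
  obtain ⟨X, aX, hsm, hsu, hfree⟩ := exists_free_smooth_cover G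
  refine isAlgStack_of_atlas_fppf (BGMono.isStack_BG G) (hasAtlas_of_space (repByAlgSp_of_free aX hfree)
    (BGMono.isStack_BG G).1 (toBG aX) ?_ ?_)
  · exact repByAlgSpWith_toBG aX good_smooth.bc
      (fppfLocal_of_fpqc (Groth.Agent.AlgSpCov.isLocalOnBase_locP Groth.Agent.AlgSpCov.standard_smooth.etaleLocal))
      (RatLift.repByAlgSpWith_overMap Groth.Agent.AlgSpCov.standard_smooth _ hsm)
  · haveI : Surjective (toT₀ X).left := hsu
    exact repByAlgSpWith_toBG aX good_surjective.bc SliceDM.fppfLocal_surjective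
      (RatLift.repByAlgSpWith_overMap_surjective (toT₀ X))

theorem isAlgStack_quotSt : AlgSt.IsAlgStack Kf QX :=
  isAlgStack_of_rep (QuotBr.isStack (aX := aX)).1 isAlgStack_BG (toBG aX) (repByAlgSp1_toBG aX)

end Groth.Agent.StFib.BGAtlas

end
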