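import Groth.Agent.StFib.BGAtlas.FreeQuot
import Groth.Agent.StFib.DescBase
import Groth.Agent.GrpdLib.FppfSourceDescentScheme
import Groth.Agent.GrpScheme.FibreFlat

/-!
# An algebraic classifying stack forces the group to be flat of finite presentation
-/

set_option autoImplicit false
set_option linter.unusedVariables false
set_option linter.style.haveILetI false
set_option backward.isDefEq.respectTransparency false
set_option backward.isDefEq.respectTransparency.types false

universe u

open CategoryTheory CategoryTheory.Limits AlgebraicGeometry Opposite FibCat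
open MonoidalCategory CartesianMonoidalCategory MonObj

noncomputable section

namespace Groth.Agent.StFib.BGAtlas

variable {S : Scheme.{u}} {G : Over S} [GrpObj G] [IsAffineHom G.hom]

section square

variable {U : Over S} (x : overCat U ⥤ᵇ AlgSt.BG Scheme.fppfPrecoverage G)

/-- The torsor of a chart. -/
abbrev tors : (AlgSt.BG Scheme.fppfPrecoverage G).obj := x.obj (Over.mk (𝟙 U))

/-- Its structure map to the chart. -/
abbrev torsπ : (tors x).P ⟶ U := (tors x).π ≫ eqToHom (x.w_obj (Over.mk (𝟙 U)))

theorem map_base {a b : (overCat U).obj} (φ : a ⟶ b) :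
    (x.map φ).base = eqToHom (x.w_obj a) ≫ φ.left ≫ eqToHom (x.w_obj b).symm :=
  w_map x φ

set_option maxHeartbeats 1000000 in
theorem exists_chart_square :
    ∃ T : overCat (tors x).P ⥤ᵇ fp (BGMono.secBG G) x, IsEquivOver T ∧
      Nonempty (BasedFunctor.comp T (fpFst (BGMono.secBG G) x) ≅ AlgSt.overMap (toT₀ (tors x).P)) := by
  have hB : IsFibGrpd (AlgSt.BG Scheme.fppfPrecoverage G).p := (BGMono.isStack_BG G).1
  let L := AlgSt.overMap (torsπ x)
  let T := AlgSt.overMap (toT₀ (tors x).P)
  let k : ∀ w : (overCat (tors x).P).obj, L.obj w ⟶ Over.mk (𝟙 U) := fun w =>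
    Over.homMk (w.hom ≫ torsπ x) (Category.comp_id _)
  let tr : ∀ w : (overCat (tors x).P).obj, (BasedFunctor.comp T (BGMono.secBG G)).obj w ⟶ tors x := fun w =>
    QuotTriv.homTriv _ (tors x) (w.hom ≫ (tors x).π) w.hom rfl (toUnit_unique _ _)
  have htr : ∀ {w w'} (φ : w ⟶ w'), (BasedFunctor.comp T (BGMono.secBG G)).map φ ≫ tr w' = tr w := by
    intro w w' φ
    refine AlgSt.QuotObj.hom_ext ?_ ?_
    · change φ.left ≫ w'.hom ≫ (tors x).π = w.hom ≫ (tors x).π
      rw [← Category.assoc, Over.w φ]
    · change (G ◁ φ.left) ≫ (G ◁ w'.hom) ≫ (tors x).act.act = (G ◁ w.hom) ≫ (tors x).act.act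
      rw [← MonoidalCategory.whiskerLeft_comp_assoc, Over.w φ]
  have hk : ∀ {w w'} (φ : w ⟶ w'), L.map φ ≫ k w' = k w := fun {w w'} φ => by
    refine Over.OverMorphism.ext ?_
    change φ.left ≫ w'.hom ≫ torsπ x = w.hom ≫ torsπ x
    rw [← Category.assoc, Over.w φ]
  choose c hcv hct using fun w : (overCat (tors x).P).obj =>
    grpd_exists_vert_fac hB (x.map (k w)) (tr w) (x.w_obj (L.obj w)).symm (by
      change eqToHom _ ≫ (x.map (k w)).base = w.hom ≫ (tors x).π
      rw [map_base]
      simp [k, torsπ])
  let e : BasedFunctor.comp T (BGMono.secBG G) ≅ BasedFunctor.comp L x :=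
    isoMk c hcv fun {w w'} φ => by
      refine grpd_cancel hB (x.map (k w')) ?_ ?_
      · have e1 : (BasedFunctor.comp L x).map φ ≫ x.map (k w') = x.map (k w) := by
          change x.map (L.map φ) ≫ x.map (k w') = _
          rw [← Functor.map_comp, hk]
        simp only [Category.assoc]
        rw [e1, hct, hct, htr]
      · rw [Functor.map_comp, Functor.map_comp, (hcv w).2, (hcv w').2]
        change φ.left ≫ eqToHom _ = eqToHom _ ≫ (x.map (L.map φ)).base
        rw [map_base, eqToHom_trans_assoc, eqToHom_refl, Category.id_comp]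
        rfl
  refine ⟨fpLift T L e, ?_, ⟨Iso.refl _⟩⟩
  refine fpLift_isEquivOver_mk T L e (fun {w w'} φ ψ h _ => ?_) (fun {w w'} a b hab => ?_) (fun z => ?_)
  · exact Over.OverMorphism.ext (congrArg (fun k => k.left) h :)
  · change (BGMono.secBG G).map a ≫ (c w').hom = (c w).hom ≫ x.map b at hab
    have hbase : a.left = b.left := by
      have e1 : (c w).hom.base = eqToHom (hcv w).1 := (hcv w).2
      have e2 : (c w').hom.base = eqToHom (hcv w').1 := (hcv w').2
      have h1 : a.left ≫ (c w').hom.base = (c w).hom.base ≫ (x.map b).base := congrArg (fun m => m.base) hab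
      rw [e1, e2] at h1
      rw [map_base, eqToHom_trans_assoc, eqToHom_refl, Category.id_comp] at h1
      exact (cancel_mono _).1 h1
    have hb : b ≫ k w' = k w := by
      refine Over.OverMorphism.ext ?_
      change b.left ≫ w'.hom ≫ torsπ x = w.hom ≫ torsπ x
      exact Over.w b
    have h2 := congrArg (· ≫ x.map (k w')) hab
    simp only [Category.assoc, hct, ← Functor.map_comp, hb] at h2
    have hkey : a.left ≫ w'.hom = w.hom := by
      have h3 : (G ◁ a.left) ≫ (G ◁ w'.hom) ≫ (tors x).act.act = (G ◁ w.hom) ≫ (tors x).act.act :=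
        congrArg (fun m => m.top) h2
      have key : ∀ (k' : w.left ⟶ w'.left),
          (G ◁ k') ≫ (G ◁ w'.hom) ≫ (tors x).act.act = (G ◁ w.hom) ≫ (tors x).act.act →
          k' ≫ w'.hom = w.hom := fun k' hk' => by
        have := congrArg (lift (1 : w.left ⟶ G) (𝟙 w.left) ≫ ·) hk'
        simpa only [lift_whiskerLeft_assoc, Category.id_comp, QuotTriv.act_one] using this
      exact key a.left h3
    refine ⟨Over.homMk a.left hkey, Over.OverMorphism.ext rfl, Over.OverMorphism.ext hbase⟩
  · obtain ⟨⟨t, v, m⟩, hz⟩ := z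
    have hmv : Vert m.hom := vert_of_isHomLift hz
    have hl : v.left = t.left := ((x.w_obj v).symm.trans hmv.1.symm :)
    obtain ⟨vl, ⟨⟨⟩⟩, vh⟩ := v
    subst hl
    let kv : (⟨t.left, ⟨⟨⟩⟩, vh⟩ : (overCat U).obj) ⟶ Over.mk (𝟙 U) := Over.homMk vh (Category.comp_id _)
    obtain ⟨s, hsπ, -, htop⟩ := QuotTriv.exists_sec (K := Scheme.fppfPrecoverage) (aX := AlgSt.trivAction G)
      (a := (AlgSt.ofOverCat _).obj ((Over.mk t.hom : Over _))) (A := tors x) (m.hom ≫ x.map kv)
    let w : (overCat (tors x).P).obj := Over.mk s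
    have hvh : s ≫ torsπ x = vh := by
      rw [← Category.assoc, hsπ]
      have h1 := hmv.2
      change (m.hom).base = eqToHom _ at h1
      change (m.hom.base ≫ (x.map kv).base) ≫ _ = vh
      rw [h1, map_base]
      simp [kv]
    let a : T.obj w ≅ t := Over.isoMk (Iso.refl _) (Over.mkIdTerminal.hom_ext _ _)
    let b : L.obj w ≅ ⟨t.left, ⟨⟨⟩⟩, vh⟩ := Over.isoMk (Iso.refl _) (by
      change 𝟙 t.left ≫ vh = s ≫ torsπ x
      rw [Category.id_comp, hvh])
    refine ⟨w, a, b, ⟨rfl, rfl⟩, ?_⟩
    change (BGMono.secBG G).map a.hom ≫ m.hom = (c w).hom ≫ x.map b.hom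
    refine grpd_cancel hB (x.map kv) ?_ ?_
    · have e1 : b.hom ≫ kv = k w := Over.OverMorphism.ext (by
        change 𝟙 t.left ≫ vh = s ≫ torsπ x
        rw [Category.id_comp, hvh])
      rw [Category.assoc, Category.assoc, ← Functor.map_comp, e1, hct]
      refine AlgSt.QuotObj.hom_ext ?_ ?_
      · change 𝟙 t.left ≫ (m.hom ≫ x.map kv).base = s ≫ (tors x).π
        rw [Category.id_comp]
        exact hsπ.symm
      · change (G ◁ 𝟙 t.left) ≫ (m.hom ≫ x.map kv).top = (G ◁ s) ≫ (tors x).act.act
        rw [MonoidalCategory.whiskerLeft_id, Category.id_comp]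
        exact htop
    · rw [Functor.map_comp, Functor.map_comp, hmv.2, (hcv w).2]
      change 𝟙 t.left ≫ eqToHom _ = eqToHom _ ≫ (x.map b.hom).base
      rw [map_base]
      simp [b]
      exact (Category.id_comp _).symm

theorem smooth_surjective_tors (hx : AlgSt.RepByAlgSpWith (AlgSp.LocP @Smooth) x)
    (hxs : AlgSt.RepByAlgSpWith AlgSp.IsSurjectiveMor x) :
    Smooth (tors x).P.hom ∧ Surjective (tors x).P.hom := by
  obtain ⟨T, hT, ⟨i⟩⟩ := exists_chart_square x
  have key : ∀ P : MorphismProperty (AlgSp.Sp S), AlgSt.RepByAlgSpWith P x →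
      AlgSt.RepByAlgSpWith P (AlgSt.overMap (toT₀ (tors x).P)) := fun P hP =>
    (repByAlgSpWith_iff_of_equiv P T (BasedFunctor.id _) hT (isEquivOver_id _)
      (f := fpFst (BGMono.secBG G) x) (f' := AlgSt.overMap (toT₀ (tors x).P)) i.symm).1
      (repByAlgSpWith_fpFst P _ hP)
  exact ⟨mem_scheme_of_overMap Groth.Agent.AlgSpCov.standard_smooth (key _ hx), surjective_of_overMap (key _ hxs)⟩

end square

omit [IsAffineHom G.hom] in
open TensorProduct in
/-- Flatness descends along a split map to a faithfully flat algebra. -/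
theorem flat_of_split {R A P C : Type u} [CommRing R] [CommRing A] [CommRing P] [CommRing C] [Algebra R A]
    [Algebra R P] [Algebra A P] [IsScalarTower R A P] [Algebra A C] [IsLocalRing A] [IsLocalRing C]
    (g : P →+* C) (hγ : ∀ a, g (algebraMap A P a) = algebraMap A C a) (h1 : (algebraMap A C).Flat)
    (hloc : IsLocalHom (algebraMap A C)) (h2 : (algebraMap R P).Flat) : (algebraMap R A).Flat := by
  rw [RingHom.flat_algebraMap_iff] at h1 h2 ⊢
  haveI := h1; haveI := h2; haveI := hloc
  haveI : Module.FaithfullyFlat A C := Module.FaithfullyFlat.of_flat_of_isLocalHom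
  letI : Algebra R C := ((algebraMap A C).comp (algebraMap R A)).toAlgebra
  haveI : IsScalarTower R A C := IsScalarTower.of_algebraMap_eq fun _ => rfl
  refine Module.Flat.iff_lTensor_preserves_injective_linearMap.2 fun N M _ _ _ _ f hf => ?_
  rw [injective_iff_map_eq_zero]
  intro z hz
  let jA : A →ₗ[R] P := (IsScalarTower.toAlgHom R A P).toLinearMap
  let g' : P →ₗ[R] C :=
    ({ g with
      commutes' := fun r => by
        show g (algebraMap R P r) = _
        rw [IsScalarTower.algebraMap_apply R A P, hγ]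
        rfl } : P →ₐ[R] C).toLinearMap
  have h3 : jA.rTensor N z = 0 := by
    refine Module.Flat.lTensor_preserves_injective_linearMap (M := P) f hf ?_
    rw [map_zero, ← LinearMap.comp_apply, LinearMap.lTensor_comp_rTensor, ← LinearMap.rTensor_comp_lTensor,
      LinearMap.comp_apply, hz, map_zero]
  have h4 : (g'.comp jA).rTensor N z = 0 := by rw [LinearMap.rTensor_comp, LinearMap.comp_apply, h3, map_zero]
  refine Module.FaithfullyFlat.tensorProduct_mk_injective (A := A) (B := C) (A ⊗[R] N) ?_
  rw [map_zero]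
  refine (AlgebraTensorModule.cancelBaseChange R A C C N).injective ?_
  rw [map_zero]
  refine Eq.trans ?_ h4
  clear hz h3 h4
  induction z using TensorProduct.induction_on with
  | zero => simp
  | add a b ha hb => simp only [map_add, ha, hb]
  | tmul a n =>
    change AlgebraTensorModule.cancelBaseChange R A C C N ((1 : C) ⊗ₜ[A] (a ⊗ₜ[R] n)) = _
    rw [AlgebraTensorModule.cancelBaseChange_tmul, LinearMap.rTensor_tmul]
    congr 1
    rw [Algebra.smul_def, _root_.mul_one]
    exact (hγ a).symm

omit [IsAffineHom G.hom] in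
/-- A section fppf locally makes a map universally injective on modules. -/
theorem flat_of_section {P U U' S : Scheme.{u}} (f : P ⟶ U) (h : U ⟶ S) [Flat (f ≫ h)] (c : U' ⟶ U)
    [Flat c] [Surjective c] (s : U' ⟶ P) (hs : s ≫ f = c) : Flat h := by
  refine Flat.of_stalkMap _ fun u => ?_
  obtain ⟨u', rfl⟩ := c.surjective u
  have hp : f (s u') = c u' := by rw [← Scheme.Hom.comp_apply, hs]
  have h1 : ((s ≫ f).stalkMap u').hom.Flat := by
    have := Flat.stalkMap c u'
    subst hs
    exact this
  have h2 := Flat.stalkMap (f ≫ h) (s u')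
  rw [Scheme.Hom.stalkMap_comp] at h1 h2
  suffices (h.stalkMap (f (s u'))).hom.Flat by subst hs; exact this
  set α := (h.stalkMap (f (s u'))).hom
  set β := (f.stalkMap (s u')).hom
  set g := (s.stalkMap u').hom
  change (β.comp α).Flat at h2
  change (g.comp β).Flat at h1
  have hloc : IsLocalHom (g.comp β) := inferInstance
  letI := α.toAlgebra
  letI := (β.comp α).toAlgebra
  letI := β.toAlgebra
  letI := (g.comp β).toAlgebra
  haveI : IsScalarTower (S.presheaf.stalk (h (f (s u')))) (U.presheaf.stalk (f (s u'))) (P.presheaf.stalk (s u')) :=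
    IsScalarTower.of_algebraMap_eq fun _ => rfl
  exact flat_of_split (R := S.presheaf.stalk (h (f (s u')))) (A := U.presheaf.stalk (f (s u')))
    (P := P.presheaf.stalk (s u')) (C := U'.presheaf.stalk u') g (fun _ => rfl) h1 hloc h2

/-- Flatness descends along a flat surjective map of the source. -/
theorem flat_of_source {X Y Z : Scheme.{u}} (c : X ⟶ Y) (h : Y ⟶ Z) [Flat c] [Surjective c]
    (hf : Flat (c ≫ h)) : Flat h :=
  have := hf
  flat_of_section c h c (𝟙 X) (Category.id_comp c)

omit [IsAffineHom G.hom] in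
/-- A torsor with smooth surjective total space forces the group to be flat of finite presentation. -/
theorem flat_lfp_of_torsor (A : AlgSt.QuotObj Scheme.fppfPrecoverage G (AlgSt.trivAction G))
    (hsm : Smooth A.P.hom) (hsu : Surjective A.P.hom) [LocallyOfFiniteType A.π.left] :
    Flat G.hom ∧ LocallyOfFinitePresentation G.hom := by
  let f := A.π.left
  let h := A.base.hom
  have hfh : f ≫ h = A.P.hom := Over.w A.π
  haveI : Flat (f ≫ h) := by rw [hfh]; infer_instance
  haveI : LocallyOfFinitePresentation (f ≫ h) := by rw [hfh]; infer_instance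
  obtain ⟨R, hR, hsec⟩ := A.loc
  obtain ⟨ι₀, X₀, f₀, rfl⟩ := R.exists_eq_ofArrows
  obtain ⟨hcov, hP⟩ := (Scheme.ofArrows_mem_precoverage_iff _).1 hR
  choose i hi using hcov
  choose s₀ hs₀ using fun u : A.base.left => hsec (f₀ (i u)) ⟨i u⟩
  let U' := ∐ fun u : A.base.left => X₀ (i u)
  let c : U' ⟶ A.base.left := Sigma.desc fun u => f₀ (i u)
  let σ : U' ⟶ A.P.left := Sigma.desc s₀
  have hσ : σ ≫ f = c := Sigma.hom_ext _ _ fun u => by
    rw [Sigma.ι_desc_assoc, Sigma.ι_desc]
    exact hs₀ u
  haveI hcs : Surjective c := ⟨fun u => by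
    obtain ⟨y, hy⟩ := hi u
    exact ⟨Sigma.ι (fun u => X₀ (i u)) u y, by rw [← Scheme.Hom.comp_apply, Sigma.ι_desc]; exact hy⟩⟩
  haveI hcf : Flat c := (IsZariskiLocalAtSource.iff_of_openCover (P := @Flat) (sigmaOpenCover _)).2 fun u => by
    change Flat (Sigma.ι (fun u => X₀ (i u)) u ≫ c)
    rw [Sigma.ι_desc]
    exact (hP (i u)).1
  haveI hcl : LocallyOfFinitePresentation c :=
    (IsZariskiLocalAtSource.iff_of_openCover (P := @LocallyOfFinitePresentation) (sigmaOpenCover _)).2 fun u => by
      change LocallyOfFinitePresentation (Sigma.ι (fun u => X₀ (i u)) u ≫ c)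
      rw [Sigma.ι_desc]
      exact (hP (i u)).2
  haveI : LocallyOfFinitePresentation σ := by
    haveI : LocallyOfFinitePresentation (σ ≫ f) := by rw [hσ]; infer_instance
    exact GrpScheme.FlatFib.locallyOfFinitePresentation_of_comp σ f
  haveI : LocallyOfFinitePresentation (c ≫ h) := by rw [← hσ, Category.assoc]; infer_instance
  haveI := GrpdLib.FppfSourceDescent.locallyOfFinitePresentation_of_comp_fppf c h
  haveI : Flat h := flat_of_section f h c σ hσ
  let W : Over S := Over.mk (c ≫ h)
  let sW : W ⟶ A.P := Over.homMk σ (by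
    change σ ≫ A.P.hom = c ≫ h
    rw [← hfh, ← hσ, Category.assoc])
  let cW : W ⟶ A.base := Over.homMk c rfl
  have hsW : sW ≫ A.π = cW := Over.OverMorphism.ext hσ
  have sqW : IsPullback ((G ◁ sW) ≫ A.act.act).left (snd G W).left f c := by
    have h1 := (AlgSt.isPullback_whiskerLeft (G := G) sW).paste_horiz A.cart
    rw [hsW] at h1
    exact (h1.map (Over.forget S) :)
  haveI : Flat f := GrpScheme.FibreFlat.flat_of_fibres f h fun s => by
    rw [GrpScheme.FibreFlat.fiberMap_mem_iff @Flat f h s]
    let p1 := pullback.fst (h.fiberι s) c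
    let p2 := pullback.snd (h.fiberι s) c
    let pr := pullback.snd (snd G W).left p2
    let q := pullback.fst (snd G W).left p2
    have sqG : IsPullback (q ≫ (fst G W).left) pr G.hom (p2 ≫ W.hom) :=
      (IsPullback.of_hasPullback (snd G W).left p2).paste_horiz
        (IsPullback.of_hasPullback G.hom W.hom :)
    let k := p1 ≫ h.fiberToSpecResidueField s
    have hk : p2 ≫ W.hom = k ≫ S.fromSpecResidueField s := by
      change p2 ≫ c ≫ h = (p1 ≫ h.fiberToSpecResidueField s) ≫ _
      rw [Category.assoc, ← Scheme.Hom.fiber_fac, ← Category.assoc, ← pullback.condition, Category.assoc]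
    haveI : Flat pr := by
      let l := pullback.lift (f := G.hom) (g := S.fromSpecResidueField s) (q ≫ (fst G W).left) (pr ≫ k)
        (by rw [sqG.w, hk]; simp only [k, Category.assoc])
      have sq0 : IsPullback (l ≫ pullback.fst G.hom (S.fromSpecResidueField s)) pr G.hom
          (k ≫ S.fromSpecResidueField s) := by
        rw [pullback.lift_fst, ← hk]
        exact sqG
      have sq1 := IsPullback.of_right sq0 (pullback.lift_snd _ _ _) (IsPullback.of_hasPullback _ _)
      exact MorphismProperty.of_isPullback (P := @Flat) sq1 inferInstance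
    have sqT : IsPullback (q ≫ ((G ◁ sW) ≫ A.act.act).left) pr f (p2 ≫ c) :=
      (IsPullback.of_hasPullback (snd G W).left p2).paste_horiz sqW
    let l := pullback.lift (f := f) (g := h.fiberι s) (q ≫ ((G ◁ sW) ≫ A.act.act).left) (pr ≫ p1)
      (by rw [sqT.w, Category.assoc, pullback.condition])
    have sq0 : IsPullback (l ≫ pullback.fst f (h.fiberι s)) pr f (p1 ≫ h.fiberι s) := by
      rw [pullback.lift_fst, pullback.condition]
      exact sqT
    have sq1 : IsPullback l pr (pullback.snd f (h.fiberι s)) p1 :=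
      IsPullback.of_right sq0 (pullback.lift_snd _ _ _) (IsPullback.of_hasPullback _ _)
    haveI : Flat l := MorphismProperty.of_isPullback (P := @Flat) sq1.flip inferInstance
    haveI : Surjective l := MorphismProperty.of_isPullback (P := @Surjective) sq1.flip inferInstance
    refine flat_of_source l _ ?_
    rw [sq1.w]
    infer_instance
  haveI : LocallyOfFinitePresentation f := GrpScheme.FlatFib.locallyOfFinitePresentation_of_comp f h
  have sqP : IsPullback A.act.act.left (snd G A.P).left f f := (A.cart.map (Over.forget S) :)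
  haveI : Flat (snd G A.P).left := MorphismProperty.of_isPullback (P := @Flat) sqP inferInstance
  haveI : LocallyOfFinitePresentation (snd G A.P).left :=
    MorphismProperty.of_isPullback (P := @LocallyOfFinitePresentation) sqP inferInstance
  have sqB : IsPullback (fst G A.P).left (snd G A.P).left G.hom A.P.hom :=
    (IsPullback.of_hasPullback G.hom A.P.hom :)
  haveI : Flat (fst G A.P).left := MorphismProperty.of_isPullback (P := @Flat) sqB.flip inferInstance
  haveI : LocallyOfFinitePresentation (fst G A.P).left :=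
    MorphismProperty.of_isPullback (P := @LocallyOfFinitePresentation) sqB.flip inferInstance
  haveI : Surjective (fst G A.P).left := MorphismProperty.of_isPullback (P := @Surjective) sqB.flip hsu
  haveI : Flat ((fst G A.P).left ≫ G.hom) := by rw [sqB.w]; infer_instance
  haveI : LocallyOfFinitePresentation ((fst G A.P).left ≫ G.hom) := by rw [sqB.w]; infer_instance
  exact ⟨flat_of_source (fst G A.P).left G.hom inferInstance,
    GrpdLib.FppfSourceDescent.locallyOfFinitePresentation_of_comp_fppf (fst G A.P).left G.hom⟩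

theorem flat_lfp_of_isAlgStack_BG
    (h : AlgSt.IsAlgStack Scheme.fppfPrecoverage (AlgSt.BG Scheme.fppfPrecoverage G)) :
    Flat G.hom ∧ LocallyOfFinitePresentation G.hom := by
  obtain ⟨U, x, hx, hxs⟩ := h.atlas
  obtain ⟨hsm, hsu⟩ := smooth_surjective_tors x hx hxs
  haveI : LocallyOfFiniteType ((tors x).π.left ≫ (tors x).base.hom) := by rw [Over.w]; infer_instance
  haveI : LocallyOfFiniteType (tors x).π.left := locallyOfFiniteType_of_comp _ (tors x).base.hom
  exact flat_lfp_of_torsor (tors x) hsm hsu

end Groth.Agent.StFib.BGAtlas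

end
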