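import Groth.Agent.AlgSpB.Art.SliceAlg
import Mathlib.RingTheory.Jacobson.Ring
import Mathlib.RingTheory.Jacobson.Artinian

/-!
# Finite slices of a fibre cut out by a sequence regular on an open set
-/

set_option autoImplicit false
set_option linter.unusedVariables false

universe u

open TensorProduct

namespace Groth.Agent.StFib.BGAtlas

open Groth.Agent.AlgSpB.Art (fibMap exists_pow_mul_mem exists_fibMap_eq mem_map_fibMap_iff comap_fibMap_over)

variable {B F : Type u} [CommRing B] [CommRing F]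

theorem map_ofList' (θ : B →+* F) (l : List B) : (Ideal.ofList l).map θ = Ideal.ofList (l.map θ) :=
  Ideal.map_ofList θ l

/-- A Noetherian Jacobson ring has an isolated point of the locus cut out by a sequence which is
regular on an open neighbourhood. The sequence and the open set come from a ring with the same primes. -/
theorem exists_regular_isolated [IsNoetherianRing F] [IsJacobsonRing F] [Nontrivial F] (θ : B →+* F)
    (hθ : ∀ x : F, ∃ b : B, ∀ P : Ideal F, P.IsPrime → (θ b ∈ P ↔ x ∈ P)) :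
    ∃ (l : List B) (w : B) (Q : Ideal F), Q.IsMaximal ∧ Ideal.ofList (l.map θ) ≤ Q ∧ θ w ∉ Q ∧
      (∀ P : Ideal F, P.IsPrime → Ideal.ofList (l.map θ) ≤ P → θ w ∉ P → P = Q) ∧
      ∀ (l₁ : List B) (h : B) (l₂ : List B), l = l₁ ++ h :: l₂ → ∀ m : F,
        θ h * m ∈ Ideal.ofList (l₁.map θ) → ∃ N, θ w ^ N * m ∈ Ideal.ofList (l₁.map θ) := by
  classical
  choose bb hbb using hθ
  suffices key : ∀ K : Ideal F, ∀ (l : List B) (w : B), Ideal.ofList (l.map θ) = K →
      (∃ P : Ideal F, P.IsPrime ∧ K ≤ P ∧ θ w ∉ P) →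
      (∀ (l₁ : List B) (h : B) (l₂ : List B), l = l₁ ++ h :: l₂ → ∀ m : F,
        θ h * m ∈ Ideal.ofList (l₁.map θ) → ∃ N, θ w ^ N * m ∈ Ideal.ofList (l₁.map θ)) →
      ∃ (l : List B) (w : B) (Q : Ideal F), Q.IsMaximal ∧ Ideal.ofList (l.map θ) ≤ Q ∧ θ w ∉ Q ∧
      (∀ P : Ideal F, P.IsPrime → Ideal.ofList (l.map θ) ≤ P → θ w ∉ P → P = Q) ∧
      ∀ (l₁ : List B) (h : B) (l₂ : List B), l = l₁ ++ h :: l₂ → ∀ m : F,
        θ h * m ∈ Ideal.ofList (l₁.map θ) → ∃ N, θ w ^ N * m ∈ Ideal.ofList (l₁.map θ) by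
    obtain ⟨M, hM⟩ := Ideal.exists_maximal F
    exact key ⊥ [] 1 (by simp) ⟨M, hM.isPrime, bot_le, by
      rw [map_one]; exact fun h => hM.ne_top ((Ideal.eq_top_iff_one M).2 h)⟩
      fun l₁ h l₂ he => absurd he (by simp)
  intro K
  induction K using IsNoetherian.induction with
  | hgt K ih =>
    intro l w hK hne hreg
    by_cases hall : ∀ P : Ideal F, P.IsPrime → K ≤ P → θ w ∉ P → P.IsMaximal
    · -- isolate one point
      obtain ⟨Q, hQp, hKQ, hwQ⟩ := hne
      have hQ := hall Q hQp hKQ hwQ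
      let T := ((Ideal.finite_minimalPrimes_of_isNoetherianRing F K).toFinset).erase Q
      have hx : ∀ P ∈ T, ∃ x ∈ P, x ∉ Q := by
        intro P hP
        rw [Finset.mem_erase, Set.Finite.mem_toFinset] at hP
        refine SetLike.not_le_iff_exists.1 fun hle => hP.1 ?_
        have := hP.2.1.1
        exact le_antisymm hle (by
          by_contra hlt
          have hwP : θ w ∉ P := fun h => hwQ (hle h)
          exact hP.1 ((hall P hP.2.1.1 hP.2.1.2 hwP).eq_of_le hQp.ne_top hle))
      choose! x hx1 hx2 using hx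
      let v : B := ∏ P ∈ T, bb (x P)
      have hv : ∀ P ∈ T, θ v ∈ P := fun P hP => by
        have hPp : P.IsPrime := by
          have := hP
          rw [Finset.mem_erase, Set.Finite.mem_toFinset] at this
          exact this.2.1.1
        rw [map_prod]
        exact Ideal.prod_mem _ hP ((hbb _ P hPp).2 (hx1 P hP))
      have hvQ : θ v ∉ Q := fun h => by
        rw [map_prod] at h
        obtain ⟨P, hP, hPQ⟩ := (hQp.prod_mem_iff).1 h
        exact hx2 P hP ((hbb _ Q hQp).1 hPQ)
      refine ⟨l, w * v, Q, hQ, hK.le.trans hKQ, by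
        rw [map_mul]; exact fun h => (hQp.mem_or_mem h).elim hwQ hvQ, fun P hP hlP hwP => ?_, ?_⟩
      · have hwP' : θ w ∉ P := fun h => hwP (by rw [map_mul]; exact P.mul_mem_right _ h)
        rw [hK] at hlP
        obtain ⟨P', hP', hle⟩ := Ideal.exists_minimalPrimes_le hlP
        have := hP'.1.1
        have hP'P : P' = P := (hall P' hP'.1.1 hP'.1.2 fun h => hwP' (hle h)).eq_of_le hP.ne_top hle
        by_contra hne'
        have hPT : P ∈ T := by
          simp only [T, Finset.mem_erase, Set.Finite.mem_toFinset]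
          exact ⟨hne', hP'P ▸ hP'⟩
        exact hwP (by rw [map_mul]; exact P.mul_mem_left _ (hv P hPT))
      · intro l₁ h l₂ he m hm
        obtain ⟨N, hN⟩ := hreg l₁ h l₂ he m hm
        refine ⟨N, ?_⟩
        rw [map_mul, mul_pow, mul_comm (θ w ^ N), mul_assoc]
        exact Ideal.mul_mem_left _ _ hN
    · push Not at hall
      obtain ⟨P₀, hP₀, hKP₀, hwP₀, hP₀max⟩ := hall
      obtain ⟨η, hη, hηP⟩ := Ideal.exists_minimalPrimes_le hKP₀
      have : η.IsPrime := hη.1.1
      have hηmax : ¬ η.IsMaximal := fun h => hP₀max (h.eq_of_le hP₀.ne_top hηP ▸ h)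
      have hwη : θ w ∉ η := fun h => hwP₀ (hηP h)
      have hchoice : ∀ P ∈ associatedPrimes F (F ⧸ K), P ≠ η → ∃ x ∈ P, x ∉ η := by
        intro P hP hne'
        refine SetLike.not_le_iff_exists.1 fun hle => hne' (le_antisymm hle (hη.2 ⟨hP.isPrime, ?_⟩ hle))
        obtain ⟨_, c, rfl⟩ := hP
        intro y hy
        refine Ideal.le_radical ?_
        rw [Submodule.mem_colon_singleton, Submodule.mem_bot]
        obtain ⟨c, rfl⟩ := Ideal.Quotient.mk_surjective c
        show Ideal.Quotient.mk K (y * c) = 0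
        rw [Ideal.Quotient.eq_zero_iff_mem]
        exact Ideal.mul_mem_right _ _ hy
      choose! x hx1 hx2 using hchoice
      let T := (associatedPrimes.finite F (F ⧸ K)).toFinset.erase η
      let v : B := ∏ P ∈ T, bb (x P)
      have hvη : θ v ∉ η := fun h => by
        rw [map_prod] at h
        obtain ⟨P, hP, hPη⟩ := ((inferInstance : η.IsPrime).prod_mem_iff).1 h
        rw [Finset.mem_erase, Set.Finite.mem_toFinset] at hP
        exact hx2 P hP.2 hP.1 ((hbb _ η inferInstance).1 hPη)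
      let w' := w * v
      have hw'η : θ w' ∉ η := by
        rw [map_mul]; exact fun h => ((inferInstance : η.IsPrime).mem_or_mem h).elim hwη hvη
      -- a bigger prime avoiding `w'`
      obtain ⟨Q, hηQ, hQ, hw'Q⟩ : ∃ Q : Ideal F, η ≤ Q ∧ Q.IsMaximal ∧ θ w' ∉ Q := by
        by_contra hno
        push Not at hno
        refine hw'η ?_
        have hrad : η.jacobson = η :=
          IsJacobsonRing.out' η (Ideal.IsPrime.isRadical ‹_›)
        rw [← hrad, Ideal.jacobson, Ideal.mem_sInf]
        rintro J ⟨hle, hJ⟩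
        exact hno J hle hJ
      obtain ⟨a₀, ha₀Q, ha₀η⟩ := SetLike.not_le_iff_exists.1
        (fun hle : Q ≤ η => hηmax (le_antisymm hle hηQ ▸ hQ))
      let a : B := bb a₀
      have haQ : θ a ∈ Q := (hbb _ Q hQ.isPrime).2 ha₀Q
      have haη : θ a ∉ η := fun h => ha₀η ((hbb _ η inferInstance).1 h)
      have hK' : Ideal.ofList ((l ++ [a]).map θ) = K ⊔ Ideal.span {θ a} := by
        rw [List.map_append, List.map_singleton, Ideal.ofList_append, Ideal.ofList_singleton, hK]
      refine ih _ ?_ (l ++ [a]) w' hK' ⟨Q, hQ.isPrime, sup_le (hη.1.2.trans hηQ)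
        ((Ideal.span_singleton_le_iff_mem _).2 haQ), hw'Q⟩ ?_
      · refine lt_of_le_of_ne le_sup_left fun e => haη (hη.1.2 ?_)
        rw [e]
        exact Ideal.mem_sup_right (Ideal.mem_span_singleton_self _)
      · intro l₁ h l₂ he m hm
        rcases List.eq_nil_or_concat l₂ with rfl | ⟨l₃, b, rfl⟩
        · obtain ⟨rfl, hh⟩ := List.append_inj' he rfl
          obtain rfl : a = h := by simpa using hh
          rw [hK] at hm ⊢
          refine exists_pow_mul_mem K (θ w') (θ a) m (fun P hP hPa => ?_) hm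
          have hne' : P ≠ η := fun e => haη (e ▸ hPa)
          have := hP.isPrime
          rw [map_mul, map_prod]
          refine P.mul_mem_left _ (Ideal.prod_mem _ (i := P) ?_ ((hbb _ P hP.isPrime).2 (hx1 P hP hne')))
          rw [Finset.mem_erase, Set.Finite.mem_toFinset]
          exact ⟨hne', hP⟩
        · have : l ++ [a] = (l₁ ++ h :: l₃) ++ [b] := by rw [he]; simp
          obtain ⟨N, hN⟩ := hreg l₁ h l₃ (List.append_inj' this rfl).1 m hm
          refine ⟨N, ?_⟩
          rw [map_mul, mul_pow, mul_comm (θ w ^ N), mul_assoc]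
          exact Ideal.mul_mem_left _ _ hN

variable {R : Type u} [CommRing R] [Algebra R B] (p : Ideal R) [p.IsPrime]

/-- Inverting an element which avoids exactly one prime of an algebra of finite type over a field gives
a finite quotient. -/
theorem finite_away {k G L : Type u} [Field k] [CommRing G] [CommRing L] [Algebra k G] [Algebra k L]
    [Algebra G L] [IsScalarTower k G L] [Algebra.FiniteType k G] (u : G) [IsLocalization.Away u L]
    (Q : Ideal G) [Q.IsPrime] (huQ : u ∉ Q) (hiso : ∀ P : Ideal G, P.IsPrime → u ∉ P → P = Q) :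
    Nontrivial L ∧ Module.Finite k L ∧ Function.Surjective (algebraMap G L) ∧
      ∀ g ∉ Q, IsUnit (algebraMap G L g) := by
  have hu : IsUnit (algebraMap G L u) := IsLocalization.Away.algebraMap_isUnit _
  have hnt : Nontrivial L := by
    by_contra h
    rw [not_nontrivial_iff_subsingleton] at h
    obtain ⟨⟨_, n, rfl⟩, hn⟩ :=
      (IsLocalization.map_eq_zero_iff (Submonoid.powers u) L (1 : G)).1 (Subsingleton.elim _ _)
    have hn' : u ^ n = 0 := (mul_one (u ^ n)).symm.trans hn
    exact huQ ((inferInstance : Q.IsPrime).mem_of_pow_mem n (hn' ▸ Q.zero_mem))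
  have hprimes : ∀ q : Ideal L, q.IsPrime → q.comap (algebraMap G L) = Q := fun q hq =>
    hiso _ (Ideal.IsPrime.comap _) fun h => hq.ne_top (Ideal.eq_top_of_isUnit_mem _ h hu)
  have : Algebra.FiniteType G L := IsLocalization.finiteType_of_monoid_fg (Submonoid.powers u) L
  have hft : Algebra.FiniteType k L := Algebra.FiniteType.trans ‹Algebra.FiniteType k G› this
  have hnoe : IsNoetherianRing L := Algebra.FiniteType.isNoetherianRing k _
  have hmaxl : ∀ q : Ideal L, q.IsPrime → q.IsMaximal := fun q hq => by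
    obtain ⟨m, hm, hqm⟩ := Ideal.exists_le_maximal q hq.ne_top
    suffices q = m by rw [this]; exact hm
    exact ((IsLocalization.map_comap (Submonoid.powers u) L q).symm.trans
      (congrArg (Ideal.map _) ((hprimes q hq).trans (hprimes m hm.isPrime).symm))).trans
      (IsLocalization.map_comap (Submonoid.powers u) L m)
  have hart : IsArtinianRing L := by
    rw [isArtinianRing_iff_isNoetherianRing_krullDimLE_zero]
    exact ⟨hnoe, Ring.krullDimLE_zero_iff.2 hmaxl⟩
  have hfin : Module.Finite k L := (Module.finite_iff_isArtinianRing k L).2 hart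
  refine ⟨hnt, hfin, fun x => ?_, fun g hg => ?_⟩
  · obtain ⟨g, s, rfl⟩ := IsLocalization.exists_mk'_eq (Submonoid.powers u) x
    let W : Submodule k L := LinearMap.range (IsScalarTower.toAlgHom k G L).toLinearMap
    have hs : IsUnit (algebraMap G L s) := IsLocalization.map_units L s
    let φ : W →ₗ[k] W := LinearMap.restrict (LinearMap.mulLeft k (algebraMap G L s)) (fun y hy => by
      obtain ⟨y, rfl⟩ := hy
      exact ⟨(s : G) * y, map_mul (algebraMap G L) _ _⟩)
    have hφ : Function.Injective φ := fun a b h => Subtype.ext (hs.mul_left_cancel (congrArg Subtype.val h))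
    obtain ⟨⟨_, y, rfl⟩, hy⟩ := LinearMap.injective_iff_surjective.1 hφ ⟨algebraMap G L g, g, rfl⟩
    refine ⟨y, hs.mul_left_cancel ?_⟩
    rw [IsLocalization.mk'_spec']
    exact congrArg Subtype.val hy
  · by_contra h
    obtain ⟨m, hm, hbm⟩ := exists_max_ideal_of_mem_nonunits h
    exact hg (by rw [← hprimes m hm.isPrime]; exact hbm)

/-- A finite quotient of a fibre cut out by a sequence regular on the fibre, lifted to the algebra. -/
theorem exists_fibre_slice [Algebra.FiniteType R B] [Nontrivial (p.Fiber B)] :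
    ∃ (l : List B) (w : B) (Q : Ideal B) (A₀ : Type u) (_ : CommRing A₀) (_ : Algebra p.ResidueField A₀)
      (z₀ : p.Fiber B →ₐ[p.ResidueField] A₀),
      Q.IsPrime ∧ Q.comap (algebraMap R B) = p ∧ (∀ a ∈ l, a ∈ Q) ∧
      (∀ (l₁ : List B) (h : B) (l₂ : List B), l = l₁ ++ h :: l₂ → ∀ m : B,
        h * m ∈ p.map (algebraMap R B) ⊔ Ideal.ofList l₁ →
          ∃ s ∉ Q, s * m ∈ p.map (algebraMap R B) ⊔ Ideal.ofList l₁) ∧
      Nontrivial A₀ ∧ Module.Finite p.ResidueField A₀ ∧
      IsUnit (z₀ (fibMap p w)) ∧ (∀ b ∉ Q, IsUnit (z₀ (fibMap p b))) ∧ (∀ a ∈ l, z₀ (fibMap p a) = 0) ∧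
      Function.Surjective z₀ ∧
      (∀ b : B, z₀ (fibMap p b) = 0 →
        ∃ (c : R) (N : ℕ), c ∉ p ∧ algebraMap R B c * w ^ N * b ∈ p.map (algebraMap R B) ⊔ Ideal.ofList l) := by
  classical
  have : IsNoetherianRing (p.Fiber B) := Algebra.FiniteType.isNoetherianRing p.ResidueField _
  have : IsJacobsonRing (p.Fiber B) := isJacobsonRing_of_finiteType (A := p.ResidueField)
  let θ : B →+* p.Fiber B := fibMap p
  obtain ⟨l, w, Q, hQ, hlQ, hwQ, hiso, hreg⟩ := exists_regular_isolated θ fun x => by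
    obtain ⟨b, hb⟩ := exists_fibMap_eq p x
    exact ⟨b, fun P hP => hb P⟩
  let K := Ideal.ofList (l.map θ)
  let G := p.Fiber B ⧸ K
  let A₀ := Localization.Away (Ideal.Quotient.mkₐ p.ResidueField K (θ w))
  let z₀ : p.Fiber B →ₐ[p.ResidueField] A₀ :=
    (IsScalarTower.toAlgHom p.ResidueField G A₀).comp (Ideal.Quotient.mkₐ p.ResidueField K)
  have hlK : ∀ l₁ : List B, Ideal.ofList (l₁.map θ) = (Ideal.ofList l₁).map θ := fun l₁ =>
    (Ideal.map_ofList θ l₁).symm
  have hmem : ∀ (l₁ : List B) (b : B), θ b ∈ Ideal.ofList (l₁.map θ) ↔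
      ∃ c ∉ p, algebraMap R B c * b ∈ Ideal.ofList l₁ ⊔ p.map (algebraMap R B) := fun l₁ b => by
    rw [hlK]; exact mem_map_fibMap_iff p _ b
  have hKQ : K ≤ Q := hlQ
  have : (Q.map (Ideal.Quotient.mk K)).IsPrime :=
    Ideal.map_isPrime_of_surjective (H := hQ.isPrime) Ideal.Quotient.mk_surjective (by rwa [Ideal.mk_ker])
  have hQc : (Q.map (Ideal.Quotient.mk K)).comap (Ideal.Quotient.mk K) = Q := by
    rw [Ideal.comap_map_of_surjective _ Ideal.Quotient.mk_surjective, ← RingHom.ker_eq_comap_bot,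
      Ideal.mk_ker, sup_of_le_left hKQ]
  have : Algebra.FiniteType p.ResidueField G := inferInstance
  obtain ⟨hnt, hfin, hG, hunit₀⟩ := finite_away (k := p.ResidueField) (L := A₀)
    (Ideal.Quotient.mkₐ p.ResidueField K (θ w)) (Q.map (Ideal.Quotient.mk K))
    (fun h => hwQ (by rw [← hQc]; exact h)) fun P hP hwP => by
      refine Ideal.comap_injective_of_surjective _ Ideal.Quotient.mk_surjective ?_
      rw [hQc]
      refine hiso _ (Ideal.IsPrime.comap _) (fun x hx => ?_) hwP
      rw [Ideal.mem_comap, Ideal.Quotient.eq_zero_iff_mem.2 hx]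
      exact P.zero_mem
  have hzw : IsUnit (z₀ (θ w)) :=
    IsLocalization.Away.algebraMap_isUnit (S := A₀) (Ideal.Quotient.mkₐ p.ResidueField K (θ w))
  have hunit : ∀ b : B, b ∉ Q.comap θ → IsUnit (z₀ (θ b)) := fun b hb =>
    hunit₀ _ fun h => hb (by rw [Ideal.mem_comap, ← hQc]; exact h)
  have hsurj : Function.Surjective z₀ := fun x => by
    obtain ⟨g, rfl⟩ := hG x
    obtain ⟨f, rfl⟩ := Ideal.Quotient.mk_surjective g
    exact ⟨f, rfl⟩
  refine ⟨l, w, Q.comap θ, A₀, inferInstance, inferInstance, z₀, Ideal.IsPrime.comap _, comap_fibMap_over p Q,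
    fun a ha => hlQ (Ideal.subset_span (List.mem_map.2 ⟨a, ha, rfl⟩)), ?_, hnt, hfin, hzw, hunit,
    fun a ha => ?_, hsurj, fun b hb => ?_⟩
  · intro l₁ h l₂ he m hm
    have h1 : θ (h * m) ∈ Ideal.ofList (l₁.map θ) := (hmem l₁ _).2
      ⟨1, fun h1 => (inferInstance : p.IsPrime).ne_top ((Ideal.eq_top_iff_one p).2 h1),
        by rw [map_one, one_mul, sup_comm]; exact hm⟩
    rw [map_mul] at h1
    obtain ⟨N, hN⟩ := hreg l₁ h l₂ he (θ m) h1
    rw [← map_pow, ← map_mul] at hN
    obtain ⟨c, hc, hcm⟩ := (hmem l₁ _).1 hN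
    refine ⟨algebraMap R B c * w ^ N, fun hs => ?_, ?_⟩
    · rcases (Ideal.IsPrime.comap θ (K := Q)).mem_or_mem hs with hs | hs
      · exact hc ((comap_fibMap_over p Q) ▸ (hs : c ∈ (Q.comap θ).comap (algebraMap R B)))
      · exact hwQ ((Ideal.IsPrime.comap θ (K := Q)).mem_of_pow_mem N hs)
    · rw [sup_comm, mul_assoc]; exact hcm
  · have h0 : Ideal.Quotient.mkₐ p.ResidueField K (θ a) = 0 :=
      Ideal.Quotient.eq_zero_iff_mem.2 (Ideal.subset_span (List.mem_map.2 ⟨a, ha, rfl⟩))
    show (IsScalarTower.toAlgHom p.ResidueField G A₀) (Ideal.Quotient.mkₐ p.ResidueField K (θ a)) = 0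
    rw [h0, map_zero]
  · obtain ⟨⟨_, n, rfl⟩, hn⟩ :=
      (IsLocalization.map_eq_zero_iff (Submonoid.powers (Ideal.Quotient.mkₐ p.ResidueField K (θ w))) A₀
        (Ideal.Quotient.mk K (θ b))).1 hb
    have hn' : Ideal.Quotient.mk K (θ (w ^ n * b)) = 0 := by
      rw [map_mul, map_pow, map_mul, map_pow]; exact hn
    obtain ⟨c, hc, hcm⟩ := (hmem l _).1 (Ideal.Quotient.eq_zero_iff_mem.1 hn')
    exact ⟨c, n, hc, by rw [sup_comm, mul_assoc]; exact hcm⟩

end Groth.Agent.StFib.BGAtlas
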