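import Groth.Agent.StFib.BGAtlas.Lifting
import Groth.Agent.StFib.BGAtlas.FibSlice
import Groth.Agent.Wt.CMSlice
import Mathlib.RingTheory.Finiteness.ModuleFinitePresentation

/-!
# A smooth point of the chart over every point of the base
-/

set_option autoImplicit false
set_option linter.unusedVariables false
set_option linter.style.haveILetI false
set_option backward.isDefEq.respectTransparency false
set_option backward.isDefEq.respectTransparency.types false
set_option maxHeartbeats 1000000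

universe u

open TensorProduct

noncomputable section

namespace Groth.Agent.StFib.BGAtlas

open Groth.Agent.AlgSpB.Art (fibMap flatAt_self)

variable {R B : Type u} [CommRing R] [CommRing B] [Algebra R B]

theorem fibMap_algebraMap (p : Ideal R) [p.IsPrime] (r : R) :
    fibMap (B := B) p (algebraMap R B r) = algebraMap p.ResidueField (p.Fiber B) (algebraMap R p.ResidueField r) :=
  inc_algebraMap r

/-- The universal slice, lifted with parameters. -/
theorem exists_param_slice [Algebra.FinitePresentation R B] [Module.Flat R B] (p : Ideal R) [p.IsPrime]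
    (Q : Ideal B) [Q.IsPrime] (hQp : Q.comap (algebraMap R B) = p) (l : List B) {σ : Type} [Finite σ]
    (ev : MvPolynomial σ R →ₐ[R] R) (gu : Fin l.length → MvPolynomial σ R ⊗[R] B)
    (ε : MvPolynomial σ R ⊗[R] B →ₐ[R] B) (hε : ∀ q b, ε (q ⊗ₜ b) = ev q • b)
    (hgu : ∀ i, ε (gu i) = l.get i)
    (hreg : ∀ (l₁ : List B) (h : B) (l₂ : List B), l = l₁ ++ h :: l₂ → ∀ m : B,
        h * m ∈ p.map (algebraMap R B) ⊔ Ideal.ofList l₁ →
          ∃ s ∉ Q, s * m ∈ p.map (algebraMap R B) ⊔ Ideal.ofList l₁) :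
    (∀ y, y - (1 : MvPolynomial σ R) ⊗ₜ[R] ε y ∈
      (p.comap ev).map (algebraMap (MvPolynomial σ R) (MvPolynomial σ R ⊗[R] B))) ∧
    ∃ g₂ : MvPolynomial σ R ⊗[R] B, ε g₂ ∉ Q ∧ ∀ g, g₂ ∣ g →
      ∀ (C : Type u) [CommRing C] [Algebra (MvPolynomial σ R ⊗[R] B) C] [Algebra (MvPolynomial σ R) C]
        [IsScalarTower (MvPolynomial σ R) (MvPolynomial σ R ⊗[R] B) C] [IsLocalization.Away g C],
        Module.Flat (MvPolynomial σ R)
          (C ⧸ (Ideal.ofList (List.ofFn gu)).map (algebraMap (MvPolynomial σ R ⊗[R] B) C)) := by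
  classical
  let P := MvPolynomial σ R
  let p₂ : Ideal P := p.comap ev
  let I₂ : Ideal (P ⊗[R] B) := p₂.map (algebraMap P (P ⊗[R] B))
  have hεalg : ∀ q : P, ε (algebraMap P (P ⊗[R] B) q) = algebraMap R B (ev q) := fun q => by
    rw [Algebra.TensorProduct.algebraMap_apply, Algebra.algebraMap_self, RingHom.id_apply, hε,
      Algebra.smul_def, mul_one]
  have hε1 : ∀ b, ε ((1 : P) ⊗ₜ b) = b := fun b => by rw [hε, map_one, one_smul]
  have hmod : ∀ y, y - (1 : P) ⊗ₜ[R] ε y ∈ I₂ := fun y => by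
    induction y using TensorProduct.induction_on with
    | zero => simp
    | add y y' h h' =>
      have := I₂.add_mem h h'
      rw [map_add, TensorProduct.tmul_add]
      rwa [add_sub_add_comm]
    | tmul q b =>
      have e1 : q ⊗ₜ[R] b - (1 : P) ⊗ₜ[R] ε (q ⊗ₜ b) =
          algebraMap P (P ⊗[R] B) (q - algebraMap R P (ev q)) * ((1 : P) ⊗ₜ b) := by
        rw [hε, ← TensorProduct.smul_tmul, ← Algebra.algebraMap_eq_smul_one, ← TensorProduct.sub_tmul,
          Algebra.TensorProduct.algebraMap_apply, Algebra.algebraMap_self, RingHom.id_apply,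
          Algebra.TensorProduct.tmul_mul_tmul, mul_one, one_mul]
      rw [e1]
      refine Ideal.mul_mem_right _ _ (Ideal.mem_map_of_mem _ ?_)
      rw [Ideal.mem_comap, map_sub, AlgHom.commutes, Algebra.algebraMap_self, RingHom.id_apply, sub_self]
      exact p.zero_mem
  refine ⟨hmod, ?_⟩
  let P₂ : PrimeSpectrum (P ⊗[R] B) := ⟨Q.comap ε.toRingHom, Ideal.IsPrime.comap _⟩
  have hP₂ : P₂.asIdeal.comap (algebraMap P (P ⊗[R] B)) = p₂ := by
    ext q
    show ε (algebraMap P (P ⊗[R] B) q) ∈ Q ↔ ev q ∈ p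
    rw [hεalg, ← hQp, Ideal.mem_comap]
  have hiff : ∀ (l₁ : List (P ⊗[R] B)) (x : P ⊗[R] B),
      x ∈ I₂ ⊔ Ideal.ofList l₁ ↔ ε x ∈ p.map (algebraMap R B) ⊔ Ideal.ofList (l₁.map ε) := fun l₁ x => by
    constructor
    · intro hx
      have hx' := Ideal.mem_map_of_mem ε.toRingHom hx
      rw [Ideal.map_sup, Ideal.map_map, Ideal.map_ofList] at hx'
      refine (sup_le_sup_right ?_ _ : _ ≤ p.map (algebraMap R B) ⊔ _) hx'
      rw [Ideal.map_le_iff_le_comap]
      intro q hq
      show ε (algebraMap P (P ⊗[R] B) q) ∈ p.map (algebraMap R B)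
      rw [hεalg]
      exact Ideal.mem_map_of_mem _ hq
    · intro hx
      let ir : B →+* P ⊗[R] B := (Algebra.TensorProduct.includeRight : B →ₐ[R] P ⊗[R] B).toRingHom
      have hle : (p.map (algebraMap R B) ⊔ Ideal.ofList (l₁.map ε)).map ir ≤ I₂ ⊔ Ideal.ofList l₁ := by
        rw [Ideal.map_sup, sup_le_iff]
        constructor
        · rw [Ideal.map_map, Ideal.map_le_iff_le_comap]
          intro r hr
          show (1 : P) ⊗ₜ[R] algebraMap R B r ∈ I₂ ⊔ Ideal.ofList l₁
          rw [inc_algebraMap]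
          refine Ideal.mem_sup_left (Ideal.mem_map_of_mem _ ?_)
          rw [Ideal.mem_comap, AlgHom.commutes]
          exact hr
        · rw [Ideal.map_le_iff_le_comap, Ideal.ofList, Ideal.span_le]
          intro b hb
          obtain ⟨y, hy, rfl⟩ := List.mem_map.1 hb
          show (1 : P) ⊗ₜ[R] ε y ∈ I₂ ⊔ Ideal.ofList l₁
          rw [← sub_sub_cancel y ((1 : P) ⊗ₜ[R] ε y)]
          exact Ideal.sub_mem _ (Ideal.mem_sup_right (Ideal.subset_span hy)) (Ideal.mem_sup_left (hmod y))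
      rw [← sub_add_cancel x ((1 : P) ⊗ₜ[R] ε x)]
      exact Ideal.add_mem _ (Ideal.mem_sup_left (hmod x)) (hle (Ideal.mem_map_of_mem ir hx))
  have hl : (List.ofFn gu).map ε = l := by
    rw [List.map_ofFn, show (⇑ε ∘ gu) = l.get from funext hgu]
    exact List.ofFn_get l
  obtain ⟨g₂, hg₂, hflat⟩ := Groth.Agent.Wt.CMSlice.exists_slices (R := P) (S := P ⊗[R] B) P₂
    (flatAt_self P₂.asIdeal) (List.ofFn gu) fun l₁ h l₂ he m hm => by
      rw [hP₂] at hm ⊢
      have hsplit : l = l₁.map ε ++ ε h :: l₂.map ε := by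
        rw [← hl, he, List.map_append, List.map_cons]
      obtain ⟨s, hs, hsm⟩ := hreg _ _ _ hsplit (ε m) (by rw [← map_mul]; exact (hiff _ _).1 hm)
      refine ⟨(1 : P) ⊗ₜ s, fun h1 => hs (by rw [← hε1 s]; exact h1), (hiff _ _).2 ?_⟩
      rw [map_mul, hε1]
      exact hsm
  refine ⟨g₂, hg₂, fun g hdvd C _ _ _ _ _ => ?_⟩
  rw [Ideal.map_ofList]
  exact (hflat g hdvd C).2

/-- A localised quotient, as an abstract algebra. -/
theorem exists_slice_alg {P S : Type u} [CommRing P] [CommRing S] [Algebra P S] [Algebra.FinitePresentation P S]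
    {n : ℕ} (gu : Fin n → S) (g : S)
    (hflat : ∀ (C : Type u) [CommRing C] [Algebra S C] [Algebra P C] [IsScalarTower P S C] [IsLocalization.Away g C],
      Module.Flat P (C ⧸ (Ideal.ofList (List.ofFn gu)).map (algebraMap S C))) :
    ∃ (D : Type u) (_ : CommRing D) (_ : Algebra P D) (π : S →ₐ[P] D),
      Module.Flat P D ∧ Algebra.FinitePresentation P D ∧ (∀ i, π (gu i) = 0) ∧ IsUnit (π g) ∧
        (∀ x : D, ∃ (y : S) (m : ℕ), π g ^ m * x = π y) ∧
        ∀ (E : Type u) [CommRing E] (f : S →+* E), IsUnit (f g) → (∀ i, f (gu i) = 0) →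
          ∃ f' : D →+* E, ∀ y, f' (π y) = f y := by
  let C := Localization.Away g
  let 𝔞 : Ideal C := (Ideal.ofList (List.ofFn gu)).map (algebraMap S C)
  haveI : Algebra.FinitePresentation S C := IsLocalization.Away.finitePresentation g
  haveI : Algebra.FinitePresentation P C := Algebra.FinitePresentation.trans P S C
  refine ⟨C ⧸ 𝔞, inferInstance, inferInstance, (Ideal.Quotient.mkₐ P 𝔞).comp (IsScalarTower.toAlgHom P S C),
    hflat C, Algebra.FinitePresentation.quotient (Ideal.FG.map (Submodule.fg_span (List.finite_toSet _)) _),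
    fun i => ?_, ?_, fun x => ?_, fun E _ f hfg hf => ?_⟩
  · exact Ideal.Quotient.eq_zero_iff_mem.2 (Ideal.mem_map_of_mem _ (Ideal.subset_span (by simp)))
  · exact (IsLocalization.Away.algebraMap_isUnit (S := C) g).map (Ideal.Quotient.mk 𝔞)
  · obtain ⟨x, rfl⟩ := Ideal.Quotient.mk_surjective x
    obtain ⟨y, t, rfl⟩ := IsLocalization.exists_mk'_eq (Submonoid.powers g) x
    obtain ⟨_, m, rfl⟩ := t
    refine ⟨y, m, ?_⟩
    show Ideal.Quotient.mk 𝔞 (algebraMap S C g) ^ m * Ideal.Quotient.mk 𝔞 _ = Ideal.Quotient.mk 𝔞 (algebraMap S C y)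
    rw [← map_pow, ← map_mul, ← map_pow, IsLocalization.mk'_spec' C y (⟨g ^ m, m, rfl⟩ : Submonoid.powers g)]
  · refine ⟨Ideal.Quotient.lift 𝔞 (IsLocalization.Away.lift g hfg) fun y hy => ?_,
      fun y => IsLocalization.Away.lift_eq g hfg y⟩
    refine (Ideal.map_le_iff_le_comap.2 (Ideal.span_le.2 fun x hx => ?_) :
      𝔞 ≤ RingHom.ker (IsLocalization.Away.lift (S := C) g hfg)) hy
    obtain ⟨i, rfl⟩ := (List.mem_ofFn' gu x).1 hx
    show IsLocalization.Away.lift g hfg (algebraMap S C (gu i)) = 0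
    rw [IsLocalization.Away.lift_eq, hf]

set_option maxHeartbeats 6000000 in
/-- Over every point of the base with nonempty fibre, the chart of some degree has a smooth point. -/
theorem exists_smooth_point [Algebra.FinitePresentation R B] [Module.Flat R B] (p : Ideal R) [p.IsPrime]
    [Nontrivial (p.Fiber B)] :
    ∃ d, 0 < d ∧ ∀ U : UnivPt R B d, ∃ (𝔥 : Ideal U.R₁), 𝔥.IsPrime ∧ 𝔥.comap (algebraMap R U.R₁) = p ∧
      ∃ f ∉ 𝔥, Algebra.FormallySmooth R (Localization.Away f) := by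
  classical
  obtain ⟨l, w, Q, A₀, _, _, z₀, hQprime, hQp, hlQ, hreg, hnt, hfin, hzw, hunit, hlz, hsurj, hker⟩ :=
    exists_fibre_slice (B := B) p
  letI : Algebra R A₀ := ((algebraMap p.ResidueField A₀).comp (algebraMap R p.ResidueField)).toAlgebra
  haveI : IsScalarTower R p.ResidueField A₀ := IsScalarTower.of_algebraMap_eq fun _ => rfl
  let zR : B →ₐ[R] A₀ := (z₀.restrictScalars R).comp (Algebra.TensorProduct.includeRight)
  have hzR : ∀ b, zR b = z₀ (fibMap p b) := fun b => rfl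
  -- a basis from the image of `B`
  have hspan0 : Submodule.span p.ResidueField (Set.range zR) = ⊤ := by
    refine eq_top_iff.2 fun a _ => ?_
    obtain ⟨y, rfl⟩ := hsurj a
    clear * - y
    induction y using TensorProduct.induction_on with
    | zero => simp
    | add y y' h h' => rw [map_add]; exact Submodule.add_mem _ h h'
    | tmul k b =>
      rw [show k ⊗ₜ[R] b = k • ((1 : p.ResidueField) ⊗ₜ[R] b) from by rw [TensorProduct.smul_tmul', smul_eq_mul, mul_one],
        map_smul]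
      exact Submodule.smul_mem _ _ (Submodule.subset_span ⟨b, rfl⟩)
  obtain ⟨v, hvs, hvspan, hvli⟩ := Submodule.exists_fun_fin_finrank_span_eq p.ResidueField (Set.range zR)
  choose c hc using hvs
  let d := Module.finrank p.ResidueField (Submodule.span p.ResidueField (Set.range zR))
  have hd : 0 < d := by
    rw [show d = Module.finrank p.ResidueField A₀ from by
      simp only [d]
      rw [hspan0]
      exact finrank_top p.ResidueField A₀]
    exact Module.finrank_pos
  refine ⟨d, hd, fun U => ?_⟩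
  let b₀ : Module.Basis (Fin d) p.ResidueField A₀ := Module.Basis.mk hvli (by rw [hvspan, hspan0])
  have hb₀ : ∀ j, b₀ j = zR (c j) := fun j => by rw [Module.Basis.mk_apply, hc]
  obtain ⟨ψ₀, ⟨μ₀, hμ₀, hμ₀b, hμ₀z⟩, -⟩ := U.univ p.ResidueField A₀ b₀ zR
  let 𝔥 : Ideal U.R₁ := RingHom.ker ψ₀.toRingHom
  have h𝔥p : 𝔥.comap (algebraMap R U.R₁) = p := by
    ext r
    show ψ₀ (algebraMap R U.R₁ r) = 0 ↔ r ∈ p
    rw [AlgHom.commutes, Ideal.algebraMap_residueField_eq_zero]
  refine ⟨𝔥, RingHom.ker_isPrime _, h𝔥p, ?_⟩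
  -- the matrix of the sections
  let M := U.β₁.toMatrix fun j => U.pt (c j)
  let f₀ := M.det
  have hf₀ : ψ₀ f₀ = 1 := by
    show ψ₀.toRingHom M.det = 1
    rw [toMatrix_map U.β₁ b₀ ψ₀.toRingHom μ₀ hμ₀ hμ₀b,
      show (fun j => μ₀ (U.pt (c j))) = b₀ from funext fun j => (hμ₀z _).trans (hb₀ j).symm,
      Module.Basis.toMatrix_self, Matrix.det_one]
  let r : Fin l.length → Fin d → U.R₁ := fun i => M.adjugate.mulVec (U.β₁.repr (U.pt (l.get i)))
  have hrel : ∀ i, ∑ j, r i j • U.pt (c j) = f₀ • U.pt (l.get i) := fun i => U.β₁.repr.injective (Finsupp.ext fun k => by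
    have h1 : M.mulVec (r i) = f₀ • (U.β₁.repr (U.pt (l.get i)) : Fin d → U.R₁) := by
      simp only [r, Matrix.mulVec_mulVec, Matrix.mul_adjugate, Matrix.smul_mulVec, Matrix.one_mulVec, f₀]
    rw [map_sum, map_smul, Finsupp.smul_apply]
    refine Eq.trans ?_ (congrFun h1 k)
    simp only [Matrix.mulVec, dotProduct, M, Module.Basis.toMatrix_apply, map_smul, Finsupp.coe_finsetSum,
      Finset.sum_apply, Finsupp.smul_apply, smul_eq_mul]
    exact Finset.sum_congr rfl fun j _ => mul_comm _ _)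
  have hr0 : ∀ i j, ψ₀ (r i j) = 0 := fun i => by
    have h := congrArg μ₀ (hrel i)
    simp only [map_sum, Algebra.smul_def, map_mul, hμ₀, hμ₀z, hf₀, ← hb₀, map_one, one_mul] at h
    rw [hzR, hlz _ (List.get_mem l i)] at h
    refine fun j => Fintype.linearIndependent_iff.1 b₀.linearIndependent (fun j => ψ₀ (r i j)) ?_ j
    simp only [Algebra.smul_def]
    exact h
  -- parameters
  let σ := Option (Fin l.length × Fin d)
  let P := MvPolynomial σ R
  let χ : P →ₐ[R] U.R₁ := MvPolynomial.aeval fun s => s.elim f₀ fun q => r q.1 q.2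
  let ev : P →ₐ[R] R := MvPolynomial.aeval fun s => s.elim 1 fun _ => 0
  have hev : ∀ q, ψ₀ (χ q) = algebraMap R p.ResidueField (ev q) := fun q => by
    have : ψ₀.comp χ = (Algebra.ofId R p.ResidueField).comp ev := MvPolynomial.algHom_ext fun s => by
      rw [AlgHom.comp_apply, AlgHom.comp_apply, MvPolynomial.aeval_X, MvPolynomial.aeval_X]
      rcases s with _ | ⟨i, j⟩
      · exact hf₀.trans (map_one _).symm
      · exact (hr0 i j).trans (map_zero _).symm
    exact DFunLike.congr_fun this q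
  let ε : P ⊗[R] B →ₐ[R] B := Algebra.TensorProduct.lift ((Algebra.ofId R B).comp ev) (AlgHom.id R B)
    fun _ _ => Commute.all _ _
  have hε : ∀ q b, ε (q ⊗ₜ b) = ev q • b := fun q b => by
    rw [Algebra.smul_def]; exact Algebra.TensorProduct.lift_tmul _ _ _ q b
  let gu : Fin l.length → P ⊗[R] B := fun i =>
    MvPolynomial.X (none : σ) ⊗ₜ l.get i - ∑ j, MvPolynomial.X (some (i, j) : σ) ⊗ₜ c j
  have hεgu : ∀ i, ε (gu i) = l.get i := fun i => by
    have h0 : ∀ j, ε (MvPolynomial.X (some (i, j) : σ) ⊗ₜ[R] c j) = 0 := fun j => by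
      rw [hε, show ev (MvPolynomial.X (some (i, j) : σ)) = 0 from MvPolynomial.aeval_X _ _, zero_smul]
    show ε (MvPolynomial.X (none : σ) ⊗ₜ[R] l.get i - ∑ j, MvPolynomial.X (some (i, j) : σ) ⊗ₜ[R] c j) = _
    rw [map_sub, map_sum, Finset.sum_eq_zero (fun j _ => h0 j), sub_zero, hε,
      show ev (MvPolynomial.X (none : σ)) = 1 from MvPolynomial.aeval_X _ _, one_smul]
  obtain ⟨hmod, g₂, hg₂, hflat⟩ := exists_param_slice p Q hQp l ev gu ε hε hεgu hreg
  let g : P ⊗[R] B := g₂ * ((1 : P) ⊗ₜ w)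
  obtain ⟨D₂, _, _, πD, hD₂flat, hD₂fp, hπgu, hπg, hπsurj, hπfac⟩ :=
    exists_slice_alg gu g (hflat g (dvd_mul_right _ _))
  letI : Algebra R D₂ := ((algebraMap P D₂).comp (algebraMap R P)).toAlgebra
  haveI : IsScalarTower R P D₂ := IsScalarTower.of_algebraMap_eq fun _ => rfl
  let ι : B →ₐ[R] D₂ := (πD.restrictScalars R).comp Algebra.TensorProduct.includeRight
  have hιw : IsUnit (ι w) := isUnit_of_mul_isUnit_right (show IsUnit (πD g₂ * ι w) from by
    rw [show ι w = πD ((1 : P) ⊗ₜ w) from rfl, ← map_mul]; exact hπg)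
  -- the map to the universal algebra
  let θ : P ⊗[R] B →ₐ[R] U.A₁ :=
    Algebra.TensorProduct.lift ((IsScalarTower.toAlgHom R U.R₁ U.A₁).comp χ) U.pt fun _ _ => Commute.all _ _
  have hθt : ∀ q b, θ (q ⊗ₜ b) = algebraMap U.R₁ U.A₁ (χ q) * U.pt b := fun q b =>
    Algebra.TensorProduct.lift_tmul _ _ _ q b
  have hθgu : ∀ i, θ (gu i) = 0 := fun i => by
    have h0 : ∀ j, θ (MvPolynomial.X (some (i, j) : σ) ⊗ₜ[R] c j) = r i j • U.pt (c j) := fun j => by
      rw [hθt, show χ (MvPolynomial.X (some (i, j) : σ)) = r i j from MvPolynomial.aeval_X _ _, Algebra.smul_def]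
    show θ (MvPolynomial.X (none : σ) ⊗ₜ[R] l.get i - ∑ j, MvPolynomial.X (some (i, j) : σ) ⊗ₜ[R] c j) = _
    rw [map_sub, map_sum, Finset.sum_congr rfl (fun j _ => h0 j), hθt,
      show χ (MvPolynomial.X (none : σ)) = f₀ from MvPolynomial.aeval_X _ _, ← Algebra.smul_def, hrel, sub_self]
  have hμθ : ∀ y, μ₀ (θ y) = zR (ε y) := fun y => by
    induction y using TensorProduct.induction_on with
    | zero => simp
    | add y y' h h' => simp only [map_add, h, h']
    | tmul q b =>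
      rw [hθt, map_mul, hμ₀, hμ₀z, hev, hε, map_smul, Algebra.smul_def,
        IsScalarTower.algebraMap_apply R p.ResidueField A₀]
  -- localise
  let f₁ := f₀ * (Algebra.leftMulMatrix U.β₁ (θ g)).det
  have hμg : IsUnit (μ₀ (θ g)) := by
    rw [hμθ, map_mul, map_mul, hε (1 : P) w, map_one, one_smul]
    exact (hunit _ hg₂).mul hzw
  have hdetg : ψ₀ (Algebra.leftMulMatrix U.β₁ (θ g)).det ≠ 0 := by
    show ψ₀.toRingHom _ ≠ 0
    rw [det_leftMulMatrix_map U.β₁ b₀ ψ₀.toRingHom μ₀ hμ₀ hμ₀b]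
    exact ((Matrix.isUnit_iff_isUnit_det _).1 (hμg.map (Algebra.leftMulMatrix b₀))).ne_zero
  have hψf₁ : IsUnit (ψ₀ f₁) := by rw [map_mul, hf₀, one_mul]; exact isUnit_iff_ne_zero.2 hdetg
  let R' := Localization.Away f₁
  haveI : IsScalarTower R U.R₁ R' := inferInstance
  let A' := R' ⊗[U.R₁] U.A₁
  let inc : U.A₁ →ₐ[U.R₁] A' := Algebra.TensorProduct.includeRight
  have hincalg : ∀ a, inc (algebraMap U.R₁ U.A₁ a) = algebraMap R' A' (algebraMap U.R₁ R' a) :=
    fun a => inc_algebraMap a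
  letI algPR' : Algebra P R' := ((algebraMap U.R₁ R').comp χ.toRingHom).toAlgebra
  have hgA' : IsUnit (inc (θ g)) := by
    obtain ⟨v, hv⟩ := exists_mul_eq_det U.β₁ (θ g)
    refine isUnit_of_mul_isUnit_left (y := inc v) ?_
    rw [← map_mul, hv, hincalg]
    exact (IsLocalization.Away.isUnit_of_dvd (S := R') f₁ (dvd_mul_left _ _)).map _
  obtain ⟨θD, hθD⟩ : ∃ θD : D₂ →+* A', ∀ y, θD (πD y) = inc (θ y) :=
    hπfac A' (inc.toRingHom.comp θ.toRingHom) hgA' fun i => by
      show inc (θ (gu i)) = 0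
      rw [hθgu, map_zero]
  obtain ⟨Θ₀, hΘ₀⟩ := exists_tensor_lift (P := P) (algebraMap R' A') θD fun q => by
    rw [← πD.commutes, hθD, Algebra.TensorProduct.algebraMap_apply, Algebra.algebraMap_self, RingHom.id_apply,
      hθt, map_one, mul_one, hincalg]
    rfl
  let Θ : R' ⊗[P] D₂ →ₐ[R'] A' :=
    { Θ₀ with
      commutes' := fun a => by
        show Θ₀ (a ⊗ₜ 1) = _
        rw [hΘ₀, map_one, mul_one] }
  have hΘt : ∀ a x, Θ (a ⊗ₜ x) = algebraMap R' A' a * θD x := hΘ₀
  have hΘι : ∀ b, Θ (1 ⊗ₜ ι b) = 1 ⊗ₜ U.pt b := fun b => by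
    rw [hΘt, map_one, one_mul]
    show θD (πD ((1 : P) ⊗ₜ b)) = _
    rw [hθD, hθt, map_one, map_one, one_mul]
    rfl
  let bR := Algebra.TensorProduct.basis R' U.β₁
  have hbR : ∀ i, inc (U.β₁ i) = bR i := fun i => (Algebra.TensorProduct.basis_apply _ _).symm
  have hc' : IsUnit (bR.toMatrix fun j => inc (U.pt (c j))).det := by
    show IsUnit (bR.toMatrix fun j => inc.toRingHom (U.pt (c j))).det
    rw [← toMatrix_map U.β₁ bR (algebraMap U.R₁ R') inc.toRingHom hincalg hbR fun j => U.pt (c j)]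
    exact IsLocalization.Away.isUnit_of_dvd f₁ (dvd_mul_right f₀ _)
  obtain ⟨hγli, hγsp⟩ := (Module.Basis.is_basis_iff_det bR).2 (by rwa [Module.Basis.det_apply])
  let γ : Module.Basis (Fin d) R' A' := Module.Basis.mk hγli hγsp.ge
  let π : R' ⊗[P] D₂ →ₗ[R'] R' ⊗[P] D₂ :=
    LinearMap.id - (γ.constr R' fun j => (1 : R') ⊗ₜ[P] ι (c j)).comp Θ.toLinearMap
  have hπK : ∀ x, Θ (π x) = 0 := fun x => by
    have : Θ.toLinearMap.comp (γ.constr R' fun j => (1 : R') ⊗ₜ[P] ι (c j)) = LinearMap.id := γ.ext fun j => by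
      rw [LinearMap.comp_apply, Module.Basis.constr_basis, AlgHom.toLinearMap_apply, hΘι, LinearMap.id_apply,
        Module.Basis.mk_apply]
      rfl
    show Θ (x - γ.constr R' _ (Θ x)) = 0
    rw [map_sub, sub_eq_zero]
    exact (LinearMap.congr_fun this (Θ x)).symm
  have hπid : ∀ x, Θ x = 0 → π x = x := fun x hx => by
    show x - γ.constr R' _ (Θ x) = x
    rw [hx, map_zero, sub_zero]
  -- reduction modulo the point
  let ψ' : R' →+* p.ResidueField := IsLocalization.Away.lift f₁ (g := ψ₀.toRingHom) hψf₁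
  have hψ' : ∀ a, ψ' (algebraMap U.R₁ R' a) = ψ₀ a := fun a => IsLocalization.Away.lift_eq f₁ hψf₁ a
  have hψ'R : ∀ a : R, ψ' (algebraMap R R' a) = algebraMap R p.ResidueField a := fun a => by
    rw [IsScalarTower.algebraMap_apply R U.R₁ R', hψ', AlgHom.commutes]
  obtain ⟨μ', hμ'⟩ := exists_tensor_lift (P := U.R₁) ((algebraMap p.ResidueField A₀).comp ψ') μ₀ fun a => by
    rw [hμ₀, RingHom.comp_apply, hψ']
  have hμ'inc : ∀ a, μ' (inc a) = μ₀ a := fun a => (hμ' 1 a).trans (by rw [map_one, one_mul])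
  have hμ'alg : ∀ a, μ' (algebraMap R' A' a) = algebraMap p.ResidueField A₀ (ψ' a) := fun a => by
    rw [Algebra.TensorProduct.algebraMap_apply, hμ', map_one, mul_one]
    rfl
  let I : Ideal (R' ⊗[P] D₂) := (RingHom.ker ψ').map (algebraMap R' _)
  let jB : B → R' ⊗[P] D₂ := fun b => 1 ⊗ₜ ι b
  have hjmul : ∀ b b', jB (b * b') = jB b * jB b' := fun b b' => by
    simp only [jB, map_mul, Algebra.TensorProduct.tmul_mul_tmul, mul_one]
  have hjR : ∀ a : R, jB (algebraMap R B a) = algebraMap R' _ (algebraMap R R' a) := fun a => by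
    simp only [jB, ι.commutes]
    rw [IsScalarTower.algebraMap_apply R P D₂, inc_algebraMap]
    congr 1
    exact (congrArg (algebraMap U.R₁ R') (χ.commutes a)).trans (IsScalarTower.algebraMap_apply R U.R₁ R' a).symm
  have hy : ∀ y, (1 : R') ⊗ₜ[P] πD y - jB (ε y) ∈ I := fun y => by
    have h1 : (Ideal.map (algebraMap P (P ⊗[R] B)) (p.comap ev)) ≤ I.comap
        ((Algebra.TensorProduct.includeRight : D₂ →ₐ[P] R' ⊗[P] D₂).toRingHom.comp πD.toRingHom) := by
      rw [Ideal.map_le_iff_le_comap]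
      intro q hq
      show (1 : R') ⊗ₜ[P] πD (algebraMap P (P ⊗[R] B) q) ∈ I
      rw [πD.commutes, inc_algebraMap]
      refine Ideal.mem_map_of_mem _ ?_
      show ψ' (algebraMap U.R₁ R' (χ q)) = 0
      rw [hψ', hev, Ideal.algebraMap_residueField_eq_zero]
      exact hq
    have h2 := h1 (hmod y)
    rw [Ideal.mem_comap] at h2
    rwa [show jB (ε y) = (1 : R') ⊗ₜ[P] πD ((1 : P) ⊗ₜ ε y) from rfl, ← TensorProduct.tmul_sub, ← map_sub]
  let G : R' ⊗[P] D₂ := 1 ⊗ₜ πD g
  have hG : IsUnit G := hπg.map (Algebra.TensorProduct.includeRight : D₂ →ₐ[P] R' ⊗[P] D₂)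
  have hstep1 : ∀ x, ∃ (a : R) (n : ℕ) (b : B), a ∉ p ∧
      algebraMap R' _ (algebraMap R R' a) * (G ^ n * x) - jB b ∈ I := fun x => by
    induction x using TensorProduct.induction_on with
    | zero =>
      refine ⟨1, 0, 0, fun h => (inferInstance : p.IsPrime).ne_top ((Ideal.eq_top_iff_one p).2 h), ?_⟩
      simp [jB]
    | add x y hx hy' =>
      obtain ⟨a, n, b, ha, hb⟩ := hx
      obtain ⟨a', n', b', ha', hb'⟩ := hy'
      let E := ε g
      refine ⟨a * a', n + n', algebraMap R B a' * E ^ n' * b + algebraMap R B a * E ^ n * b',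
        fun h => ((inferInstance : p.IsPrime).mem_or_mem h).elim ha ha', ?_⟩
      have hE : ∀ m, G ^ m - jB (E ^ m) ∈ I := fun m => by
        have := hy (g ^ m)
        simp only [map_pow] at this
        rw [show G ^ m = (1 : R') ⊗ₜ[P] (πD g ^ m) from
          (map_pow (Algebra.TensorProduct.includeRight : D₂ →ₐ[P] R' ⊗[P] D₂) (πD g) m).symm]
        exact this
      have hjadd : ∀ u u', jB (u + u') = jB u + jB u' := fun u u' => by
        simp only [jB, map_add, TensorProduct.tmul_add]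
      rw [hjadd, hjmul, hjmul, hjmul, hjmul, hjR, hjR, map_mul, map_mul]
      have e1 := Ideal.mul_mem_left I (algebraMap R' _ (algebraMap R R' a') * G ^ n') hb
      have e2 := Ideal.mul_mem_left I (algebraMap R' _ (algebraMap R R' a) * G ^ n) hb'
      have e3 := Ideal.mul_mem_left I (algebraMap R' _ (algebraMap R R' a') * jB b) (hE n')
      have e4 := Ideal.mul_mem_left I (algebraMap R' _ (algebraMap R R' a) * jB b') (hE n)
      convert I.add_mem (I.add_mem e1 e2) (I.add_mem e3 e4) using 1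
      ring
    | tmul s x =>
      obtain ⟨y, n, hyn⟩ := hπsurj x
      obtain ⟨u, a, ha, hua⟩ := exists_frac p (ψ' s)
      refine ⟨a, n, algebraMap R B u * ε y, ha, ?_⟩
      have hyG : G ^ n * ((1 : R') ⊗ₜ[P] x) = (1 : R') ⊗ₜ[P] πD y := by
        show (Algebra.TensorProduct.includeRight : D₂ →ₐ[P] R' ⊗[P] D₂) (πD g) ^ n *
          (Algebra.TensorProduct.includeRight : D₂ →ₐ[P] R' ⊗[P] D₂) x = _
        rw [← map_pow, ← map_mul, hyn]
        rfl
      have hs : algebraMap R R' a * s - algebraMap R R' u ∈ RingHom.ker ψ' := by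
        rw [RingHom.mem_ker, map_sub, map_mul, hψ'R, hψ'R, hua, sub_self]
      have key := I.add_mem (Ideal.mul_mem_right ((1 : R') ⊗ₜ[P] πD y) _ (Ideal.mem_map_of_mem (algebraMap R' _) hs))
        (Ideal.mul_mem_left I (algebraMap R' _ (algebraMap R R' u)) (hy y))
      convert key using 1
      rw [hjmul, hjR, show ∀ z : D₂, s ⊗ₜ[P] z = algebraMap R' _ s * ((1 : R') ⊗ₜ[P] z) from fun z => by simp,
        mul_left_comm (G ^ n), hyG, map_sub, map_mul]
      ring
  have hstep2 : ∀ x, Θ x = 0 → ∃ a : R, a ∉ p ∧ algebraMap R' _ (algebraMap R R' a) * x ∈ I := fun x hx => by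
    obtain ⟨a, n, b, ha, hb⟩ := hstep1 x
    have hI0 : ∀ y ∈ I, μ' (Θ y) = 0 := fun y hy' => by
      refine (Ideal.map_le_iff_le_comap.2 fun t ht => ?_ : I ≤ RingHom.ker (μ'.comp Θ.toRingHom)) hy'
      show μ' (Θ (algebraMap R' _ t)) = 0
      rw [Θ.commutes, hμ'alg, RingHom.mem_ker.1 ht, map_zero]
    have hzb : z₀ (fibMap p b) = 0 := by
      have := hI0 _ hb
      rw [map_sub, map_mul, map_mul, hx, mul_zero, mul_zero, zero_sub, map_neg, neg_eq_zero, hΘι] at this
      rw [← hzR, ← hμ₀z, ← hμ'inc]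
      exact this
    obtain ⟨u, N, hu, hub⟩ := hker b hzb
    let jh : B →+* R' ⊗[P] D₂ :=
      (Algebra.TensorProduct.includeRight : D₂ →ₐ[P] R' ⊗[P] D₂).toRingHom.comp ι.toRingHom
    have hjI : p.map (algebraMap R B) ⊔ Ideal.ofList l ≤ I.comap jh := by
      refine sup_le (Ideal.map_le_iff_le_comap.2 fun t ht => ?_) (Ideal.span_le.2 fun y hy' => ?_)
      · show jB (algebraMap R B t) ∈ I
        rw [hjR]
        exact Ideal.mem_map_of_mem _ (by
          rw [RingHom.mem_ker, hψ'R, Ideal.algebraMap_residueField_eq_zero]; exact ht)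
      · obtain ⟨i, rfl⟩ := List.mem_iff_get.1 hy'
        have h1 := hy (gu i)
        rw [hπgu, TensorProduct.tmul_zero, zero_sub, neg_mem_iff] at h1
        rw [hεgu] at h1
        exact h1
    have h3 : jB (algebraMap R B u * w ^ N * b) ∈ I := hjI hub
    rw [hjmul, hjmul, hjR] at h3
    have hwu : IsUnit (jB (w ^ N)) := by
      simp only [jB, map_pow]
      exact (hιw.pow N).map (Algebra.TensorProduct.includeRight : D₂ →ₐ[P] R' ⊗[P] D₂)
    refine ⟨u * a, fun h => ((inferInstance : p.IsPrime).mem_or_mem h).elim hu ha, ?_⟩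
    rw [← Ideal.unit_mul_mem_iff_mem I (hwu.mul (hG.pow n)), map_mul, map_mul]
    have key := I.add_mem h3 (Ideal.mul_mem_left I (algebraMap R' _ (algebraMap R R' u) * jB (w ^ N)) hb)
    convert key using 1
    ring
  -- Nakayama
  haveI : Algebra.FinitePresentation R' (R' ⊗[P] D₂) := inferInstance
  haveI : Module.Free R' A' := Module.Free.of_basis γ
  haveI : Module.Finite R' A' := Module.Finite.of_basis γ
  haveI : Module.FinitePresentation R' A' := Module.finitePresentation_of_projective R' A'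
  have hΘs : Function.Surjective Θ := fun y => by
    refine ⟨γ.constr R' (fun j => (1 : R') ⊗ₜ[P] ι (c j)) y, ?_⟩
    have h := hπK (γ.constr R' (fun j => (1 : R') ⊗ₜ[P] ι (c j)) y)
    have : Θ.toLinearMap.comp (γ.constr R' fun j => (1 : R') ⊗ₜ[P] ι (c j)) = LinearMap.id := γ.ext fun j => by
      rw [LinearMap.comp_apply, Module.Basis.constr_basis, AlgHom.toLinearMap_apply, hΘι, LinearMap.id_apply,
        Module.Basis.mk_apply]
      rfl
    exact LinearMap.congr_fun this y
  have hKfg : (RingHom.ker Θ.toRingHom).FG := Algebra.FinitePresentation.ker_fG_of_surjective Θ hΘs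
  obtain ⟨T, hT⟩ := hKfg
  choose! a ha haI using fun x (hx : Θ x = 0) => hstep2 x hx
  let s₀ : R := ∏ x ∈ T, a x
  have hTK : ∀ x ∈ T, Θ x = 0 := fun x hx => (hT.le (Ideal.subset_span hx) :)
  have hs₀ : s₀ ∉ p := fun h => by
    obtain ⟨x, hx, hxp⟩ := ((inferInstance : p.IsPrime).prod_mem_iff).1 h
    exact ha x (hTK x hx) hxp
  let s : R' ⊗[P] D₂ := algebraMap R' _ (algebraMap R R' s₀)
  have hIK : ∀ x ∈ RingHom.ker Θ.toRingHom, x ∈ I → x ∈ I * RingHom.ker Θ.toRingHom := fun x hx hxI => by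
    have hrep : ∀ y ∈ I, π y ∈ I * RingHom.ker Θ.toRingHom := fun y hy' => by
      have hy2 : y ∈ (RingHom.ker ψ') • (⊤ : Submodule R' (R' ⊗[P] D₂)) := by
        rw [Ideal.smul_top_eq_map, Submodule.restrictScalars_mem]; exact hy'
      refine Submodule.smul_induction_on hy2 (fun t ht u _ => ?_) fun u u' hu hu' => ?_
      · rw [map_smul, show t • π u = algebraMap R' _ t * π u from Algebra.smul_def t (π u)]
        exact Ideal.mul_mem_mul (Ideal.mem_map_of_mem _ ht) (hπK u)
      · rw [map_add]; exact Ideal.add_mem _ hu hu'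
    rw [← hπid x hx]
    exact hrep x hxI
  obtain ⟨e, n, hes, heK⟩ := exists_annihilator I (RingHom.ker Θ.toRingHom) ⟨T, hT⟩ s fun x hx => by
    refine hIK _ (Ideal.mul_mem_left _ _ hx) ?_
    rw [← hT] at hx
    induction hx using Submodule.span_induction with
    | zero => rw [mul_zero]; exact I.zero_mem
    | add u v _ _ hu hv => rw [mul_add]; exact I.add_mem hu hv
    | smul t u _ hu => rw [smul_eq_mul, mul_left_comm]; exact I.mul_mem_left t hu
    | mem y hy' =>
      obtain ⟨q, hq⟩ := Finset.dvd_prod_of_mem a hy'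
      show algebraMap R' _ (algebraMap R R' s₀) * y ∈ I
      rw [show s₀ = a y * q from hq, map_mul, map_mul, mul_comm (algebraMap R' _ (algebraMap R R' (a y))), mul_assoc]
      exact Ideal.mul_mem_left _ _ (haI y (hTK y hy'))
  have hμe : IsUnit (μ' (Θ e)) := by
    have h1 : μ' (Θ (e - s ^ n)) = 0 := by
      refine (Ideal.map_le_iff_le_comap.2 fun t ht => ?_ : I ≤ RingHom.ker (μ'.comp Θ.toRingHom)) hes
      show μ' (Θ (algebraMap R' _ t)) = 0
      rw [Θ.commutes, hμ'alg, RingHom.mem_ker.1 ht, map_zero]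
    rw [map_sub, map_sub, sub_eq_zero] at h1
    rw [h1, map_pow, map_pow, Θ.commutes, hμ'alg, hψ'R]
    exact ((isUnit_iff_ne_zero.2 fun h => hs₀ (Ideal.algebraMap_residueField_eq_zero.1 h)).map _).pow n
  have hspan : ∀ x, e * x ∈ Submodule.span R' (Set.range fun j => e * (1 ⊗ₜ ι (c j))) := fun x => by
    have h := heK _ (hπK x)
    rw [show π x = x - γ.constr R' (fun j => (1 : R') ⊗ₜ[P] ι (c j)) (Θ x) from rfl, mul_sub, sub_eq_zero] at h
    rw [h, Module.Basis.constr_apply_fintype, Finset.mul_sum]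
    exact Submodule.sum_mem _ fun j _ => by
      rw [mul_smul_comm]; exact Submodule.smul_mem _ _ (Submodule.subset_span ⟨j, rfl⟩)
  obtain ⟨⟨num, den⟩, hnum⟩ := IsLocalization.surj (Submonoid.powers f₁) (Algebra.leftMulMatrix bR (Θ e)).det
  have hμ'b : ∀ i, μ' (bR i) = b₀ i := fun i => by rw [← hbR, hμ'inc, hμ₀b]
  have hnum0 : ψ₀ num ≠ 0 := by
    rw [← hψ', ← hnum, map_mul, det_leftMulMatrix_map bR b₀ ψ' μ' hμ'alg hμ'b]
    exact mul_ne_zero ((Matrix.isUnit_iff_isUnit_det _).1 (hμe.map (Algebra.leftMulMatrix b₀))).ne_zero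
      ((IsLocalization.map_units R' den).map ψ').ne_zero
  refine ⟨f₁ * num, fun h => ?_, ?_⟩
  · have h' : ψ₀ (f₁ * num) = 0 := h
    rw [map_mul] at h'
    exact mul_ne_zero hψf₁.ne_zero hnum0 h'
  refine Algebra.FormallySmooth.of_comp_surjective fun B' _ _ J hJ ψ => ?_
  let Rf := Localization.Away (f₁ * num)
  let ψr : R' →+* B' ⧸ J := IsLocalization.Away.lift f₁ (g := ψ.toRingHom.comp (algebraMap U.R₁ Rf))
    ((IsLocalization.Away.isUnit_of_dvd (S := Rf) (f₁ * num) (dvd_mul_right _ _)).map ψ.toRingHom)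
  have hψr : ∀ a, ψr (algebraMap U.R₁ R' a) = ψ (algebraMap U.R₁ Rf a) := fun a => IsLocalization.Away.lift_eq f₁ _ a
  let ψR : R' →ₐ[R] B' ⧸ J :=
    { ψr with
      commutes' := fun a => by
        show ψr (algebraMap R R' a) = _
        rw [IsScalarTower.algebraMap_apply R U.R₁ R', hψr, ← IsScalarTower.algebraMap_apply R U.R₁ Rf, ψ.commutes] }
  obtain ⟨φ, hφ⟩ := exists_lift U χ ι (R' := R') (fun q => rfl) Θ hΘι c hc' e hspan B' J hJ ψR (by
    refine isUnit_of_mul_isUnit_left (y := ψr (algebraMap U.R₁ R' den)) ?_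
    show IsUnit (ψr _ * ψr _)
    rw [← map_mul, hnum, hψr]
    exact (IsLocalization.Away.isUnit_of_dvd (S := Rf) (f₁ * num) (dvd_mul_left _ _)).map ψ.toRingHom)
  have hφu : IsUnit (φ (f₁ * num)) := by
    have h1 : IsUnit (Ideal.Quotient.mk J (φ (f₁ * num))) := by
      rw [hφ]
      show IsUnit (ψr _)
      rw [hψr]
      exact (IsLocalization.Away.algebraMap_isUnit (S := Rf) (f₁ * num)).map ψ.toRingHom
    obtain ⟨v, hv⟩ := h1.exists_right_inv
    obtain ⟨v, rfl⟩ := Ideal.Quotient.mk_surjective v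
    rw [← map_mul, ← map_one (Ideal.Quotient.mk J), Ideal.Quotient.eq] at hv
    refine isUnit_of_mul_isUnit_left (y := v) ?_
    have hn : IsNilpotent (φ (f₁ * num) * v - 1) :=
      ⟨2, by rw [← Ideal.mem_bot, ← hJ]; exact Ideal.pow_mem_pow hv 2⟩
    simpa using IsNilpotent.isUnit_add_one hn
  let lift : Rf →+* B' := IsLocalization.Away.lift (f₁ * num) (g := φ.toRingHom) hφu
  have hlift : ∀ a, lift (algebraMap U.R₁ Rf a) = φ a := fun a => IsLocalization.Away.lift_eq (f₁ * num) hφu a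
  refine ⟨{ lift with
    commutes' := fun a => ?_ }, ?_⟩
  · show lift (algebraMap R Rf a) = _
    rw [IsScalarTower.algebraMap_apply R U.R₁ Rf, hlift, φ.commutes]
  · refine AlgHom.coe_ringHom_injective (IsLocalization.ringHom_ext (Submonoid.powers (f₁ * num))
      (RingHom.ext fun a => ?_))
    show Ideal.Quotient.mk J (lift (algebraMap U.R₁ Rf a)) = ψ (algebraMap U.R₁ Rf a)
    rw [hlift, hφ]
    exact hψr a

end Groth.Agent.StFib.BGAtlas

end
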