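import Groth.Agent.StFib.BGAtlas.Pts
import Groth.Agent.StFib.BGAtlas.SmoothPoint
import Groth.Agent.StFib.FlatBaseLocus
import Groth.Prelude.Def_AlgSt5

/-!
# A free action with smooth surjective quotient map to the base
-/

set_option autoImplicit false
set_option linter.unusedVariables false
set_option linter.style.haveILetI false
set_option backward.isDefEq.respectTransparency false
set_option backward.isDefEq.respectTransparency.types false
set_option maxHeartbeats 1000000

universe u

open CategoryTheory CategoryTheory.Limits AlgebraicGeometry Opposite MonoidalCategory CartesianMonoidalCategory MonObj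
open TopologicalSpace

noncomputable section

namespace Groth.Agent.StFib.BGAtlas

variable {S : Scheme.{u}}

/-- An action is free on points. -/
def IsFree {G X : Over S} [GrpObj G] (a : AlgGrp.Action G X) : Prop :=
  ∀ ⦃T : Over S⦄ (g g' : T ⟶ G) (x : T ⟶ X), lift g x ≫ a.act = lift g' x ≫ a.act → g = g'

theorem IsFree.mono {G X : Over S} [GrpObj G] {a : AlgGrp.Action G X} (h : IsFree a) :
    Mono (lift a.act (snd G X)) := by
  refine ⟨fun {T} u v huv => ?_⟩
  have h1 := congrArg (· ≫ fst X X) huv
  have h2 := congrArg (· ≫ snd X X) huv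
  simp only [Category.assoc, lift_fst, lift_snd] at h1 h2
  have hg := h (u ≫ fst G X) (v ≫ fst G X) (u ≫ snd G X) (by
    rw [← comp_lift, lift_fst_snd, Category.comp_id, h2, ← comp_lift, lift_fst_snd, Category.comp_id]
    exact h1)
  exact CartesianMonoidalCategory.hom_ext _ _ hg h2

section restrict

variable {G X : Over S} [GrpObj G] (a : AlgGrp.Action G X)

/-- The shearing automorphism of the product with the group. -/
def shearIso : G ⊗ X ≅ G ⊗ X where
  hom := lift (fst G X) a.act
  inv := lift (fst G X) (lift (fst G X)⁻¹ (snd G X) ≫ a.act)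
  hom_inv_id := by
    have h := congrArg (lift (lift (fst G X)⁻¹ (fst G X)) (snd G X) ≫ ·) a.mul_act
    ext1
    · simp
    · rw [Category.assoc, lift_snd, comp_lift_assoc, GrpObj.comp_inv, lift_fst, lift_snd, Category.id_comp]
      rw [← Category.assoc] at h
      have e1 : lift (lift (fst G X)⁻¹ (fst G X)) (snd G X) ≫ μ[G] ▷ X = lift (1 : G ⊗ X ⟶ G) (snd G X) := by
        ext1
        · rw [Category.assoc, whiskerRight_fst, lift_fst_assoc, ← Hom.mul_def, inv_mul_cancel, lift_fst]
        · rw [Category.assoc, whiskerRight_snd, lift_snd, lift_snd]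
      rw [e1] at h
      have e2 : lift (1 : G ⊗ X ⟶ G) (snd G X) ≫ a.act = snd G X := by
        have h1 := congrArg (lift (toUnit (G ⊗ X)) (snd G X) ≫ ·) a.one_act
        rw [← Category.assoc, leftUnitor_hom, lift_snd] at h1
        convert h1 using 2
        ext1
        · rw [Category.assoc, whiskerRight_fst, lift_fst_assoc, lift_fst, Hom.one_def]
        · rw [Category.assoc, whiskerRight_snd, lift_snd, lift_snd]
      rw [e2] at h
      refine Eq.trans ?_ h.symm
      simp only [← Category.assoc]
      congr 1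
      ext1 <;> simp
  inv_hom_id := by
    have h := congrArg (lift (lift (fst G X) (fst G X)⁻¹) (snd G X) ≫ ·) a.mul_act
    ext1
    · simp
    · rw [Category.assoc, lift_snd, Category.id_comp]
      rw [← Category.assoc] at h
      have e1 : lift (lift (fst G X) (fst G X)⁻¹) (snd G X) ≫ μ[G] ▷ X = lift (1 : G ⊗ X ⟶ G) (snd G X) := by
        ext1
        · rw [Category.assoc, whiskerRight_fst, lift_fst_assoc, ← Hom.mul_def, mul_inv_cancel, lift_fst]
        · rw [Category.assoc, whiskerRight_snd, lift_snd, lift_snd]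
      rw [e1] at h
      have e2 : lift (1 : G ⊗ X ⟶ G) (snd G X) ≫ a.act = snd G X := by
        have h1 := congrArg (lift (toUnit (G ⊗ X)) (snd G X) ≫ ·) a.one_act
        rw [← Category.assoc, leftUnitor_hom, lift_snd] at h1
        convert h1 using 2
        ext1
        · rw [Category.assoc, whiskerRight_fst, lift_fst_assoc, lift_fst, Hom.one_def]
        · rw [Category.assoc, whiskerRight_snd, lift_snd, lift_snd]
      rw [e2] at h
      refine Eq.trans ?_ h.symm
      simp only [← Category.assoc]
      congr 1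
      ext1 <;> simp

/-- An open subscheme, over the base. -/
abbrev openOver (V : X.left.Opens) : Over S := Over.mk (V.ι ≫ X.hom)

/-- Its inclusion. -/
def openι (V : X.left.Opens) : openOver V ⟶ X := Over.homMk V.ι rfl

instance (V : X.left.Opens) : Mono (openι V) :=
  (Over.forget S).mono_of_mono_map (inferInstanceAs (Mono V.ι))

variable [Flat G.hom] [LocallyOfFinitePresentation X.hom]

theorem act_preimage_smoothLocus :
    a.act.left ⁻¹ᵁ X.hom.smoothLocus = (snd G X).left ⁻¹ᵁ X.hom.smoothLocus := by
  have sq : IsPullback (snd G X).left (fst G X).left X.hom G.hom :=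
    ((IsPullback.of_hasPullback G.hom X.hom).flip :)
  haveI : LocallyOfFinitePresentation (fst G X).left :=
    MorphismProperty.of_isPullback (P := @LocallyOfFinitePresentation) sq inferInstance
  have h1 := Groth.Agent.S2155.result X.hom G.hom (fst G X).left (snd G X).left sq (Or.inr inferInstance)
  let θ := (shearIso a).hom.left
  haveI : IsIso θ := inferInstanceAs (IsIso ((Over.forget S).map (shearIso a).hom))
  have hθ : θ ≫ (fst G X).left = (fst G X).left :=
    congrArg CommaMorphism.left (lift_fst (fst G X) a.act)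
  have hθ' : θ ≫ (snd G X).left = a.act.left :=
    congrArg CommaMorphism.left (lift_snd (fst G X) a.act)
  rw [← hθ', Scheme.Hom.comp_preimage, ← h1, Scheme.Hom.preimage_smoothLocus_eq]
  congr 1

/-- The smooth locus is stable under the action. -/
def smoothAction : AlgGrp.Action G (openOver X.hom.smoothLocus) :=
  have hr : Set.range ((G ◁ openι X.hom.smoothLocus) ≫ a.act).left ⊆ Set.range X.hom.smoothLocus.ι := by
    rw [Scheme.Opens.range_ι]
    rintro _ ⟨t, rfl⟩
    change (G ◁ openι X.hom.smoothLocus).left t ∈ a.act.left ⁻¹ᵁ X.hom.smoothLocus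
    rw [act_preimage_smoothLocus]
    change (snd G X).left ((G ◁ openι X.hom.smoothLocus).left t) ∈ X.hom.smoothLocus
    rw [← Scheme.Hom.comp_apply, show (G ◁ openι X.hom.smoothLocus).left ≫ (snd G X).left =
      (snd G _).left ≫ X.hom.smoothLocus.ι from congrArg CommaMorphism.left (whiskerLeft_snd G _),
      Scheme.Hom.comp_apply]
    exact ((snd G _).left t).2
  let act' : G ⊗ openOver X.hom.smoothLocus ⟶ openOver X.hom.smoothLocus :=
    Over.homMk (IsOpenImmersion.lift X.hom.smoothLocus.ι _ hr) (by
      change IsOpenImmersion.lift _ _ hr ≫ X.hom.smoothLocus.ι ≫ X.hom = _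
      rw [← Category.assoc, IsOpenImmersion.lift_fac]
      exact Over.w _)
  have hact : act' ≫ openι X.hom.smoothLocus = G ◁ openι X.hom.smoothLocus ≫ a.act :=
    Over.OverMorphism.ext (IsOpenImmersion.lift_fac _ _ hr)
  { act := act'
    one_act := by
      rw [← cancel_mono (openι X.hom.smoothLocus), Category.assoc, hact, ← whisker_exchange_assoc, a.one_act,
        leftUnitor_naturality]
    mul_act := by
      rw [← cancel_mono (openι X.hom.smoothLocus)]
      simp only [Category.assoc, hact]
      rw [← whisker_exchange_assoc, a.mul_act, ← MonoidalCategory.whiskerLeft_comp_assoc, hact,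
        MonoidalCategory.whiskerLeft_comp, Category.assoc, ← associator_naturality_right_assoc] }

theorem smoothAction_act :
    (smoothAction a).act ≫ openι X.hom.smoothLocus = G ◁ openι X.hom.smoothLocus ≫ a.act :=
  Over.OverMorphism.ext (IsOpenImmersion.lift_fac _ _ _)

theorem smoothAction_free (h : IsFree a) : IsFree (smoothAction a) := fun T g g' x hx => by
  refine h g g' (x ≫ openι _) ?_
  have hx' := congrArg (· ≫ openι X.hom.smoothLocus) hx
  simp only [Category.assoc, smoothAction_act, lift_whiskerLeft_assoc] at hx'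
  exact hx'

end restrict

section sigma

variable {κ : Type u} (X : κ → Over S)

/-- The disjoint union, over the base. -/
abbrev sigmaOver : Over S := Over.mk (Sigma.desc fun i => (X i).hom)

/-- Its inclusions. -/
def sigmaInc (i : κ) : X i ⟶ sigmaOver X :=
  Over.homMk (Sigma.ι (fun i => (X i).left) i) (Sigma.ι_desc _ _)

instance (i : κ) : Mono (sigmaInc X i) :=
  (Over.forget S).mono_of_mono_map (inferInstanceAs (Mono (Sigma.ι (fun i => (X i).left) i)))

variable (G : Over S)

theorem isPullback_sigmaInc (i : κ) :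
    IsPullback (G ◁ sigmaInc X i).left (snd G (X i)).left (snd G (sigmaOver X)).left
      (Sigma.ι (fun i => (X i).left) i) :=
  ((AlgSt.isPullback_whiskerLeft (G := G) (sigmaInc X i)).map (Over.forget S) :)

theorem isOpenImmersion_whisker (i : κ) : IsOpenImmersion (G ◁ sigmaInc X i).left :=
  MorphismProperty.of_isPullback (P := @IsOpenImmersion) (isPullback_sigmaInc X G i).flip inferInstance

/-- The product with the group is covered by the products with the pieces. -/
def whiskerCover : (G ⊗ sigmaOver X).left.OpenCover where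
  I₀ := κ
  X i := (G ⊗ X i).left
  f i := (G ◁ sigmaInc X i).left
  mem₀ := by
    rw [Scheme.presieve₀_mem_precoverage_iff]
    refine ⟨fun t => ?_, fun i => isOpenImmersion_whisker X G i⟩
    obtain ⟨i, y, hy⟩ := (sigmaOpenCover fun i => (X i).left).exists_eq ((snd G (sigmaOver X)).left t)
    obtain ⟨z, hz, -⟩ := Scheme.Pullback.exists_preimage_pullback (f := (snd G (sigmaOver X)).left)
      (g := Sigma.ι (fun i => (X i).left) i) t y hy.symm
    refine ⟨i, (isPullback_sigmaInc X G i).isoPullback.inv z, ?_⟩
    rw [← Scheme.Hom.comp_apply, IsPullback.isoPullback_inv_fst]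
    exact hz

theorem whisker_hom_ext {Y : Over S} {f f' : G ⊗ sigmaOver X ⟶ Y}
    (h : ∀ i, G ◁ sigmaInc X i ≫ f = G ◁ sigmaInc X i ≫ f') : f = f' :=
  Over.OverMorphism.ext ((whiskerCover X G).hom_ext _ _ fun i => congrArg CommaMorphism.left (h i))

theorem exists_glue {Y : Over S} (f : ∀ i, G ⊗ X i ⟶ Y) :
    ∃ F : G ⊗ sigmaOver X ⟶ Y, ∀ i, G ◁ sigmaInc X i ≫ F = f i := by
  have hc : ∀ i j, pullback.fst (G ◁ sigmaInc X i).left (G ◁ sigmaInc X j).left ≫ (f i).left =
      pullback.snd _ _ ≫ (f j).left := fun i j => by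
    by_cases hij : i = j
    · subst hij
      haveI := isOpenImmersion_whisker X G i
      rw [(cancel_mono (G ◁ sigmaInc X i).left).1 pullback.condition]
    · haveI : IsEmpty ↥(pullback (G ◁ sigmaInc X i).left (G ◁ sigmaInc X j).left) := by
        refine isEmpty_of_commSq_sigmaι_of_ne (g := fun i => (X i).left)
          (a := pullback.fst _ _ ≫ (snd G (X i)).left) (b := pullback.snd _ _ ≫ (snd G (X j)).left) ⟨?_⟩ hij
        rw [Category.assoc, Category.assoc, ← (isPullback_sigmaInc X G i).w, ← (isPullback_sigmaInc X G j).w,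
          ← Category.assoc, ← Category.assoc, pullback.condition]
      exact isInitialOfIsEmpty.hom_ext _ _
  refine ⟨Over.homMk ((whiskerCover X G).glueMorphisms (fun i => (f i).left) hc)
    ((whiskerCover X G).hom_ext _ _ fun i => ?_), fun i => Over.OverMorphism.ext
      ((whiskerCover X G).ι_glueMorphisms _ hc i)⟩
  rw [← Category.assoc, (whiskerCover X G).ι_glueMorphisms _ hc i]
  exact (Over.w (f i)).trans (Over.w (G ◁ sigmaInc X i)).symm

variable [GrpObj G] (a : ∀ i, AlgGrp.Action G (X i))

theorem sigma_comp_ext {Y : Over S} {f f' : sigmaOver X ⟶ Y} (h : ∀ i, sigmaInc X i ≫ f = sigmaInc X i ≫ f') :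
    f = f' :=
  Over.OverMorphism.ext (Sigma.hom_ext _ _ fun i => congrArg CommaMorphism.left (h i))

theorem exists_sigmaAction :
    ∃ A : AlgGrp.Action G (sigmaOver X), ∀ i, G ◁ sigmaInc X i ≫ A.act = (a i).act ≫ sigmaInc X i := by
  obtain ⟨F, hF⟩ := exists_glue X G fun i => (a i).act ≫ sigmaInc X i
  refine ⟨⟨F, ?_, ?_⟩, hF⟩
  · refine whisker_hom_ext X _ fun i => ?_
    rw [whisker_exchange_assoc, hF, ← Category.assoc, (a i).one_act, leftUnitor_naturality]
  · refine whisker_hom_ext X _ fun i => ?_
    rw [whisker_exchange_assoc, hF, ← Category.assoc, (a i).mul_act, Category.assoc, Category.assoc,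
      associator_naturality_right_assoc, ← MonoidalCategory.whiskerLeft_comp_assoc, hF,
      MonoidalCategory.whiskerLeft_comp_assoc, hF]

theorem sigmaAction_free (A : AlgGrp.Action G (sigmaOver X))
    (hA : ∀ i, G ◁ sigmaInc X i ≫ A.act = (a i).act ≫ sigmaInc X i) (h : ∀ i, IsFree (a i)) : IsFree A := by
  intro T g g' x hx
  refine Over.OverMorphism.ext (Scheme.Cover.hom_ext ((sigmaOpenCover fun i => (X i).left).pullback₁ x.left) _ _ fun i => ?_)
  let P : Over S := Over.mk (pullback.fst x.left (Sigma.ι (fun i => (X i).left) i) ≫ T.hom)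
  let k : P ⟶ T := Over.homMk (pullback.fst _ _) rfl
  let xi : P ⟶ X i := Over.homMk (pullback.snd _ _) (by
    change pullback.snd _ _ ≫ (X i).hom = pullback.fst _ _ ≫ T.hom
    rw [← Over.w x, pullback.condition_assoc]
    exact congrArg (pullback.snd x.left (Sigma.ι (fun i => (X i).left) i) ≫ ·)
      (Sigma.ι_desc (f := fun i => (X i).left) (fun i => (X i).hom) i).symm)
  have hk : k ≫ x = xi ≫ sigmaInc X i := Over.OverMorphism.ext pullback.condition
  have hx' := congrArg (k ≫ ·) hx
  simp only [comp_lift_assoc, hk] at hx'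
  rw [← lift_whiskerLeft_assoc, ← lift_whiskerLeft_assoc, hA, ← Category.assoc, ← Category.assoc,
    cancel_mono] at hx'
  exact congrArg CommaMorphism.left (h i (k ≫ g) (k ≫ g') xi hx')

end sigma

section assembly

variable (G : Over S) [GrpObj G] [IsAffineHom G.hom] [Flat G.hom] [LocallyOfFinitePresentation G.hom]

/-- A free action whose structure map is smooth and surjective. -/
theorem exists_free_smooth_cover :
    ∃ (X : Over S) (aX : AlgGrp.Action G X), Smooth X.hom ∧ Surjective X.hom ∧ IsFree aX := by
  have hB : ∀ O : S.affineOpens, Algebra.FinitePresentation Γ(S, O.1) (secRing G O.1) ∧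
      Module.Flat Γ(S, O.1) (secRing G O.1) := fun O => by
    have h1 := G.hom.finitePresentation_appLE O.2 (O.2.preimage G.hom) le_rfl
    have h2 := G.hom.flat_appLE O.2 (O.2.preimage G.hom) le_rfl
    rw [← Scheme.Hom.app_eq_appLE] at h1 h2
    exact ⟨h1, h2⟩
  have hU : ∀ i : S.affineOpens × ℕ, Nonempty (UnivPt Γ(S, i.1.1) (secRing G i.1.1) (i.2 + 1)) := fun i => by
    haveI := (hB i.1).1
    exact nonempty_univPt _ _ _
  let U := fun i => (hU i).some
  have hlfp : ∀ i : S.affineOpens × ℕ, LocallyOfFinitePresentation (chart i.1.2 G (U i)).hom := fun i => by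
    haveI : LocallyOfFinitePresentation (Spec.map (CommRingCat.ofHom (algebraMap Γ(S, i.1.1) (U i).R₁))) :=
      (HasRingHomProperty.Spec_iff (P := @LocallyOfFinitePresentation)).2
        (RingHom.finitePresentation_algebraMap.2 (U i).fpR₁)
    change LocallyOfFinitePresentation (Spec.map _ ≫ i.1.2.fromSpec)
    infer_instance
  let Xs : S.affineOpens × ℕ → Over S := fun i => openOver (chart i.1.2 G (U i)).hom.smoothLocus
  let as : ∀ i, AlgGrp.Action G (Xs i) := fun i =>
    haveI := hlfp i
    smoothAction (chartAction i.1.2 G (U i))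
  obtain ⟨A, hA⟩ := exists_sigmaAction Xs G as
  have hs : ∀ i, Smooth (Xs i).hom := fun i =>
    haveI := hlfp i
    smooth_smoothLocus_ι _
  refine ⟨sigmaOver Xs, A, ?_, ⟨fun s => ?_⟩, sigmaAction_free Xs G as A hA fun i => ?_⟩
  · refine (IsZariskiLocalAtSource.iff_of_openCover (P := @Smooth) (sigmaOpenCover _)).2 fun i => ?_
    change Smooth (Sigma.ι (fun i => (Xs i).left) i ≫ Sigma.desc _)
    rw [Sigma.ι_desc]
    exact hs i
  · obtain ⟨_, ⟨O, hO, rfl⟩, hsO, -⟩ := S.isBasis_affineOpens.exists_subset_of_mem_open (Set.mem_univ s) isOpen_univ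
    let p := hO.primeIdealOf ⟨s, hsO⟩
    haveI := (hB ⟨O, hO⟩).1
    haveI := (hB ⟨O, hO⟩).2
    let e : secRing G O →ₐ[Γ(S, O)] p.asIdeal.ResidueField :=
      (Algebra.ofId Γ(S, O) p.asIdeal.ResidueField).comp ((grpPts hO G).one Γ(S, O))
    haveI : Nontrivial (p.asIdeal.Fiber (secRing G O)) :=
      (Algebra.TensorProduct.lift (AlgHom.id p.asIdeal.ResidueField p.asIdeal.ResidueField) e
        fun _ _ => Commute.all _ _).toRingHom.domain_nontrivial
    obtain ⟨d, hd, hpt⟩ := exists_smooth_point (B := secRing G O) p.asIdeal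
    obtain ⟨d, rfl⟩ : ∃ d', d = d' + 1 := ⟨d - 1, by omega⟩
    let i : S.affineOpens × ℕ := (⟨O, hO⟩, d)
    obtain ⟨𝔥, h𝔥, h𝔥p, f, hf, hfs⟩ := hpt (U i)
    haveI := hlfp i
    haveI : Algebra.FinitePresentation Γ(S, O) (Localization.Away f) := by
      haveI := (U i).fpR₁
      haveI : Algebra.FinitePresentation (U i).R₁ (Localization.Away f) := IsLocalization.Away.finitePresentation f
      exact Algebra.FinitePresentation.trans _ (U i).R₁ _
    let j : Spec (.of (Localization.Away f)) ⟶ (chart hO G (U i)).left :=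
      Spec.map (CommRingCat.ofHom (algebraMap (U i).R₁ (Localization.Away f)))
    haveI : IsOpenImmersion j := IsOpenImmersion.of_isLocalization f
    haveI : Smooth (Spec.map (CommRingCat.ofHom (algebraMap Γ(S, O) (Localization.Away f)))) :=
      (HasRingHomProperty.Spec_iff (P := @Smooth)).2 (RingHom.smooth_algebraMap.2 ⟨hfs, inferInstance⟩)
    have hj : Smooth (j.opensRange.ι ≫ (chart hO G (U i)).hom) := by
      rw [← MorphismProperty.cancel_left_of_respectsIso @Smooth j.isoOpensRange.hom,
        ← Category.assoc, Scheme.Hom.isoOpensRange_hom_ι]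
      change Smooth (Spec.map _ ≫ Spec.map _ ≫ hO.fromSpec)
      rw [← Category.assoc, ← Spec.map_comp, ← CommRingCat.ofHom_comp,
        ← IsScalarTower.algebraMap_eq Γ(S, O) (U i).R₁ (Localization.Away f)]
      infer_instance
    have hmem : (⟨𝔥, h𝔥⟩ : PrimeSpectrum (U i).R₁) ∈ j.opensRange := by
      change (⟨𝔥, h𝔥⟩ : PrimeSpectrum (U i).R₁) ∈
        Set.range (PrimeSpectrum.comap (algebraMap (U i).R₁ (Localization.Away f)))
      rw [PrimeSpectrum.localization_away_comap_range (Localization.Away f) f]
      exact hf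
    refine ⟨Sigma.ι (fun i => (Xs i).left) i ⟨_, le_smoothLocus _ j.opensRange hmem⟩, ?_⟩
    change (Sigma.ι (fun i => (Xs i).left) i ≫ Sigma.desc fun i => (Xs i).hom) _ = s
    rw [Sigma.ι_desc]
    change hO.fromSpec (PrimeSpectrum.comap (algebraMap Γ(S, O) (U i).R₁) ⟨𝔥, h𝔥⟩) = s
    rw [show PrimeSpectrum.comap (algebraMap Γ(S, O) (U i).R₁) ⟨𝔥, h𝔥⟩ = p from PrimeSpectrum.ext h𝔥p]
    exact hO.fromSpec_primeIdealOf ⟨s, hsO⟩
  · haveI := hlfp i
    exact smoothAction_free _ fun T g g' x hx => chartAction_free i.1.2 G (U i) i.2.succ_pos g g' x hx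

end assembly

end Groth.Agent.StFib.BGAtlas

end
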