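import Mathlib

/-!
# Algebra lemmas for the smoothness of the chart
-/

set_option autoImplicit false
set_option linter.unusedVariables false
set_option linter.style.haveILetI false

universe u

open TensorProduct

noncomputable section

namespace Groth.Agent.StFib.BGAtlas

theorem exists_frac {R : Type u} [CommRing R] (p : Ideal R) [p.IsPrime] (x : p.ResidueField) :
    ∃ a c : R, c ∉ p ∧ algebraMap R p.ResidueField c * x = algebraMap R p.ResidueField a := by
  obtain ⟨⟨a, ⟨c, hc⟩⟩, h⟩ := IsLocalization.surj (nonZeroDivisors (R ⧸ p)) x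
  obtain ⟨a, rfl⟩ := Ideal.Quotient.mk_surjective a
  obtain ⟨c, rfl⟩ := Ideal.Quotient.mk_surjective c
  refine ⟨a, c, fun hcp => nonZeroDivisors.ne_zero hc (Ideal.Quotient.eq_zero_iff_mem.2 hcp), ?_⟩
  rw [IsScalarTower.algebraMap_apply R (R ⧸ p) p.ResidueField, IsScalarTower.algebraMap_apply R (R ⧸ p) p.ResidueField]
  rw [mul_comm]
  exact h

variable {C C' A A' : Type u} [CommRing C] [CommRing C'] [CommRing A] [CommRing A'] [Algebra C A]
  [Algebra C' A'] {d : ℕ} (b : Module.Basis (Fin d) C A) (b' : Module.Basis (Fin d) C' A')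
  (φ : C →+* C') (μ : A →+* A') (hμ : ∀ r, μ (algebraMap C A r) = algebraMap C' A' (φ r))
  (hb : ∀ i, μ (b i) = b' i)

include hμ hb

theorem coord_map (x : A) (i : Fin d) : b'.repr (μ x) i = φ (b.repr x i) := by
  classical
  have : μ x = ∑ j, φ (b.repr x j) • b' j := by
    conv_lhs => rw [← b.sum_repr x, map_sum]
    exact Finset.sum_congr rfl fun j _ => by rw [Algebra.smul_def, map_mul, hμ, hb, ← Algebra.smul_def]
  rw [this, b'.repr_sum_self]

theorem leftMulMatrix_map (x : A) :
    (Algebra.leftMulMatrix b x).map φ = Algebra.leftMulMatrix b' (μ x) := by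
  ext i j
  rw [Matrix.map_apply, Algebra.leftMulMatrix_eq_repr_mul, Algebra.leftMulMatrix_eq_repr_mul,
    ← coord_map b b' φ μ hμ hb, map_mul, hb]

theorem det_leftMulMatrix_map (x : A) :
    φ (Algebra.leftMulMatrix b x).det = (Algebra.leftMulMatrix b' (μ x)).det := by
  rw [← leftMulMatrix_map b b' φ μ hμ hb, RingHom.map_det]
  rfl

theorem toMatrix_map (v : Fin d → A) :
    φ (b.toMatrix v).det = (b'.toMatrix fun j => μ (v j)).det := by
  rw [RingHom.map_det]
  congr 1
  ext i j
  rw [RingHom.mapMatrix_apply, Matrix.map_apply, Module.Basis.toMatrix_apply, Module.Basis.toMatrix_apply,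
    coord_map b b' φ μ hμ hb]

omit hμ hb

/-- An element of a based algebra divides the determinant of its multiplication. -/
theorem exists_mul_eq_det (x : A) : ∃ v, x * v = algebraMap C A (Algebra.leftMulMatrix b x).det := by
  classical
  let M := Algebra.leftMulMatrix b x
  refine ⟨b.equivFun.symm (M.adjugate.mulVec (b.repr 1)), b.repr.injective (Finsupp.ext fun i => ?_)⟩
  have h1 := Algebra.leftMulMatrix_mulVec_repr b x (b.equivFun.symm (M.adjugate.mulVec (b.repr 1)))
  have h2 : (b.repr (b.equivFun.symm (M.adjugate.mulVec (b.repr 1))) : Fin d → C) = M.adjugate.mulVec (b.repr 1) :=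
    b.equivFun.apply_symm_apply _
  rw [h2, Matrix.mulVec_mulVec, Matrix.mul_adjugate, Matrix.smul_mulVec, Matrix.one_mulVec] at h1
  rw [← congrFun h1 i, Algebra.algebraMap_eq_smul_one, map_smul]
  rfl

/-- Nakayama with a scalar. -/
theorem exists_annihilator {D : Type u} [CommRing D] (I K : Ideal D) (hK : K.FG) (s : D)
    (h : ∀ x ∈ K, s * x ∈ I * K) : ∃ (e : D) (n : ℕ), e - s ^ n ∈ I ∧ ∀ x ∈ K, e * x = 0 := by
  haveI : Module.Finite D K := Module.Finite.iff_fg.2 hK
  let f : Module.End D K := algebraMap D (Module.End D K) s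
  have hf : LinearMap.range f ≤ I • (⊤ : Submodule D K) := by
    rintro _ ⟨⟨x, hx⟩, rfl⟩
    rw [Submodule.mem_smul_top_iff]
    exact h x hx
  obtain ⟨P, hP, -, hcoeff, hP0⟩ :=
    LinearMap.exists_monic_and_natDegree_eq_and_coeff_mem_pow_and_aeval_eq_zero D f I hf
  refine ⟨P.eval s, P.natDegree, ?_, fun x hx => ?_⟩
  · rw [Polynomial.eval_eq_sum_range, Finset.sum_range_succ, hP.coeff_natDegree, one_mul, add_sub_cancel_right]
    refine Ideal.sum_mem _ fun i hi => Ideal.mul_mem_right _ _ (Ideal.pow_le_self ?_ (hcoeff i))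
    rw [Finset.mem_range] at hi
    omega
  · rw [Polynomial.aeval_algebraMap_apply, Polynomial.coe_aeval_eq_eval] at hP0
    exact congrArg Subtype.val (LinearMap.congr_fun hP0 ⟨x, hx⟩)

/-- A flat lift along a square-zero surjection of a based algebra is based. -/
theorem exists_basis_lift {B' A₁ A₂ : Type u} [CommRing B'] [CommRing A₁] [CommRing A₂] (J : Ideal B')
    (hJ : J ^ 2 = ⊥) [Algebra B' A₁] [Module.Flat B' A₁] [Algebra (B' ⧸ J) A₂]
    (q : A₁ →+* A₂) (hq : ∀ r, q (algebraMap B' A₁ r) = algebraMap (B' ⧸ J) A₂ (Ideal.Quotient.mk J r))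
    (hqs : Function.Surjective q) (hker : RingHom.ker q ≤ J.map (algebraMap B' A₁))
    (γ : Module.Basis (Fin d) (B' ⧸ J) A₂) :
    ∃ γ' : Module.Basis (Fin d) B' A₁, ∀ i, q (γ' i) = γ i := by
  classical
  choose y hy using fun i => hqs (γ i)
  have hq' : ∀ (r : B') (x : A₁), q (r • x) = Ideal.Quotient.mk J r • q x := fun r x => by
    rw [Algebra.smul_def, map_mul, hq, ← Algebra.smul_def]
  have hJJ : ∀ a ∈ J, ∀ c ∈ J, a * c = 0 := fun a ha c hc => by
    rw [← Ideal.mem_bot, ← hJ, pow_two]
    exact Ideal.mul_mem_mul ha hc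
  -- spanning
  let W := Submodule.span B' (Set.range y)
  have hkerJ : ∀ x, q x = 0 → x ∈ J • (⊤ : Submodule B' A₁) := fun x hx => by
    rw [Ideal.smul_top_eq_map, Submodule.restrictScalars_mem]
    exact hker hx
  have h1 : ∀ x, x ∈ W ⊔ J • (⊤ : Submodule B' A₁) := fun x => by
    choose c hc using fun i => Ideal.Quotient.mk_surjective (γ.repr (q x) i)
    have h0 : q (x - ∑ i, c i • y i) = 0 := by
      rw [map_sub, map_sum]
      simp only [hq', hy, hc, γ.sum_repr, sub_self]
    rw [← sub_add_cancel x (∑ i, c i • y i), add_comm]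
    exact Submodule.add_mem_sup (Submodule.sum_mem _ fun i _ => Submodule.smul_mem _ _
      (Submodule.subset_span (Set.mem_range_self i))) (hkerJ _ h0)
  have hW : ⊤ ≤ W := fun x _ => by
    have h2 : J • (⊤ : Submodule B' A₁) ≤ W := by
      refine Submodule.smul_le.2 fun a ha z _ => ?_
      obtain ⟨w, hw, t, ht, rfl⟩ := Submodule.mem_sup.1 (h1 z)
      rw [smul_add]
      refine W.add_mem (W.smul_mem _ hw) ?_
      refine Submodule.smul_induction_on ht (fun c hc v _ => ?_) fun v v' hv hv' => ?_
      · rw [smul_smul, hJJ a ha c hc, zero_smul]; exact W.zero_mem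
      · rw [smul_add]; exact W.add_mem hv hv'
    exact (sup_le le_rfl h2) (h1 x)
  have hli : LinearIndependent B' y := by
    rw [Fintype.linearIndependent_iff]
    intro g hg
    have hgJ : ∀ i, g i ∈ J := by
      have h0 : ∑ i, Ideal.Quotient.mk J (g i) • γ i = 0 := by
        have := congrArg q hg
        rw [map_sum, map_zero] at this
        simpa only [hq', hy] using this
      exact fun i => Ideal.Quotient.eq_zero_iff_mem.1 (Fintype.linearIndependent_iff.1 γ.linearIndependent _ h0 i)
    obtain ⟨k, a, z, hyz, haz⟩ := Module.Flat.isTrivialRelation_of_sum_smul_eq_zero hg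
    choose Z hZ using fun j i => Ideal.Quotient.mk_surjective (γ.repr (q (z j)) i)
    intro i
    have h3 : ∀ m, (∑ j, a m j * Z j i) - (if m = i then 1 else 0) ∈ J := fun m => by
      rw [← Ideal.Quotient.eq_zero_iff_mem, map_sub, map_sum]
      simp only [map_mul, hZ, apply_ite (Ideal.Quotient.mk J), map_one, map_zero]
      have h4 := congrArg (fun v => γ.repr (q v) i) (hyz m)
      simp only [hy, map_sum, hq', map_smul, Finsupp.coe_finsetSum, Finset.sum_apply, Finsupp.smul_apply,
        smul_eq_mul, γ.repr_self, Finsupp.single_apply] at h4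
      rw [← h4, sub_self]
    have h5 : ∑ m, g m * ((∑ j, a m j * Z j i) - (if m = i then 1 else 0)) = 0 :=
      Finset.sum_eq_zero fun m _ => hJJ _ (hgJ m) _ (h3 m)
    simp only [mul_sub, Finset.sum_sub_distrib, mul_ite, mul_one, mul_zero, Finset.sum_ite_eq', Finset.mem_univ,
      if_true, Finset.mul_sum, ← mul_assoc] at h5
    rw [Finset.sum_comm] at h5
    simp only [← Finset.sum_mul, haz, zero_mul, Finset.sum_const_zero, zero_sub, neg_eq_zero] at h5
    exact h5
  exact ⟨Module.Basis.mk hli hW, fun i => by rw [Module.Basis.mk_apply, hy]⟩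

end Groth.Agent.StFib.BGAtlas

end
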