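import Groth.Agent.StFib.BGAtlas.Univ
import Groth.Agent.StFib.BGAtlas.SmoothLemmas

/-!
# Lifting points of the chart along square-zero extensions
-/

set_option autoImplicit false
set_option linter.unusedVariables false
set_option linter.style.haveILetI false
set_option backward.isDefEq.respectTransparency false
set_option backward.isDefEq.respectTransparency.types false
set_option maxHeartbeats 800000

universe u

open TensorProduct

noncomputable section

namespace Groth.Agent.StFib.BGAtlas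

theorem inc_algebraMap {P M D : Type u} [CommRing P] [CommRing M] [CommRing D] [Algebra P M] [Algebra P D]
    (r : P) : (1 : M) ⊗ₜ[P] algebraMap P D r = algebraMap M (M ⊗[P] D) (algebraMap P M r) := by
  rw [Algebra.TensorProduct.algebraMap_apply, Algebra.algebraMap_self, RingHom.id_apply,
    Algebra.algebraMap_eq_smul_one, Algebra.algebraMap_eq_smul_one, TensorProduct.smul_tmul]

/-- Two compatible maps give a map on the tensor product. -/
theorem exists_tensor_lift {P M D A : Type u} [CommRing P] [CommRing M] [CommRing D] [CommRing A] [Algebra P M]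
    [Algebra P D] (f : M →+* A) (g : D →+* A) (h : ∀ r, g (algebraMap P D r) = f (algebraMap P M r)) :
    ∃ q : M ⊗[P] D →+* A, ∀ m x, q (m ⊗ₜ x) = f m * g x := by
  letI : Algebra P A := (f.comp (algebraMap P M)).toAlgebra
  let f' : M →ₐ[P] A := { f with commutes' := fun r => rfl }
  let g' : D →ₐ[P] A := { g with commutes' := h }
  exact ⟨(Algebra.TensorProduct.lift f' g' fun _ _ => Commute.all _ _).toRingHom,
    fun m x => Algebra.TensorProduct.lift_tmul f' g' (fun _ _ => Commute.all _ _) m x⟩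

/-- The decomposition after multiplying by `e` passes to a lift. -/
theorem exists_lift_decomp {P M D B' : Type u} [CommRing P] [CommRing M] [CommRing D] [CommRing B']
    [Algebra P M] [Algebra P D] [Algebra P B'] (J : Ideal B') (ψ : M →+* B' ⧸ J)
    (hψ : ∀ r, Ideal.Quotient.mk J (algebraMap P B' r) = ψ (algebraMap P M r))
    {d : ℕ} (v : Fin d → D) (e : M ⊗[P] D)
    (hspan : ∀ x, e * x ∈ Submodule.span M (Set.range fun j => e * (1 ⊗ₜ v j))) :
    ∃ e' : B' ⊗[P] D,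
      (∀ y : B' ⊗[P] D, ∃ β : Fin d → B', e' * y - ∑ j, algebraMap B' (B' ⊗[P] D) (β j) * (e' * (1 ⊗ₜ v j)) ∈
        J.map (algebraMap B' (B' ⊗[P] D))) ∧
      ∀ (A : Type u) [CommRing A] (q : B' ⊗[P] D →+* A) (ρ : M ⊗[P] D →+* A),
        (∀ a ∈ J, q (algebraMap B' (B' ⊗[P] D) a) = 0) →
        (∀ (r : M) (b : B') (x : D), Ideal.Quotient.mk J b = ψ r → q (b ⊗ₜ x) = ρ (r ⊗ₜ x)) → q e' = ρ e := by
  let JC : Ideal (B' ⊗[P] D) := J.map (algebraMap B' (B' ⊗[P] D))
  let mkC : B' ⧸ J →+* (B' ⊗[P] D) ⧸ JC := Ideal.quotientMap JC (algebraMap B' (B' ⊗[P] D)) Ideal.le_comap_map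
  let inc : D →+* B' ⊗[P] D := (Algebra.TensorProduct.includeRight : D →ₐ[P] B' ⊗[P] D).toRingHom
  have hinc : ∀ r, inc (algebraMap P D r) = algebraMap B' (B' ⊗[P] D) (algebraMap P B' r) := fun r => by
    show (1 : B') ⊗ₜ[P] algebraMap P D r = algebraMap P B' r ⊗ₜ[P] 1
    rw [Algebra.algebraMap_eq_smul_one, Algebra.algebraMap_eq_smul_one, TensorProduct.smul_tmul]
  obtain ⟨κ, hκ⟩ := exists_tensor_lift (mkC.comp ψ) ((Ideal.Quotient.mk JC).comp inc) fun r => by
    rw [RingHom.comp_apply, RingHom.comp_apply, hinc, ← hψ]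
    rfl
  obtain ⟨e', he'⟩ := Ideal.Quotient.mk_surjective (κ e)
  refine ⟨e', fun y => ?_, fun A _ q ρ hqJ hqρ => ?_⟩
  · induction y using TensorProduct.induction_on with
    | zero => exact ⟨0, by simp⟩
    | add y y' h h' =>
      obtain ⟨β, hβ⟩ := h
      obtain ⟨β', hβ'⟩ := h'
      refine ⟨β + β', ?_⟩
      have := JC.add_mem hβ hβ'
      simp only [Pi.add_apply, map_add, add_mul, Finset.sum_add_distrib, mul_add]
      rwa [add_sub_add_comm]
    | tmul b x =>
      obtain ⟨r, hr'⟩ := (Submodule.mem_span_range_iff_exists_fun M).1 (hspan (1 ⊗ₜ x))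
      choose β hβ using fun j => Ideal.Quotient.mk_surjective (ψ (r j))
      refine ⟨fun j => b * β j, ?_⟩
      rw [← Ideal.Quotient.eq_zero_iff_mem, map_sub, map_sum]
      have h1 := congrArg κ hr'
      have h2 : ∀ x : D, κ (1 ⊗ₜ x) = Ideal.Quotient.mk JC (1 ⊗ₜ x) := fun x => by
        rw [hκ, map_one, one_mul]
        rfl
      have h3 : ∀ m : M, κ (algebraMap M _ m) = mkC (ψ m) := fun m => by
        rw [Algebra.TensorProduct.algebraMap_apply, hκ, map_one, mul_one]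
        rfl
      simp only [Algebra.smul_def, map_sum, map_mul, h2, h3, ← he'] at h1
      simp only [map_mul, show b ⊗ₜ[P] x = algebraMap B' (B' ⊗[P] D) b * (1 ⊗ₜ x) from by simp]
      rw [mul_left_comm, ← h1, Finset.mul_sum, sub_eq_zero]
      refine Finset.sum_congr rfl fun j _ => ?_
      rw [← hβ, show mkC (Ideal.Quotient.mk J (β j)) = Ideal.Quotient.mk JC (algebraMap B' _ (β j)) from rfl]
      ring
  · let q'' : (B' ⊗[P] D) ⧸ JC →+* A := Ideal.Quotient.lift JC q fun a ha =>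
      (Ideal.map_le_iff_le_comap.2 fun j hj => hqJ j hj : JC ≤ RingHom.ker q) ha
    have key : ∀ y, q'' (κ y) = ρ y := fun y => by
      induction y using TensorProduct.induction_on with
      | zero => simp
      | add y y' h h' => simp only [map_add, h, h']
      | tmul r x =>
        obtain ⟨b, hb⟩ := Ideal.Quotient.mk_surjective (ψ r)
        rw [hκ, RingHom.comp_apply, RingHom.comp_apply, ← hb, ← hqρ r b x hb]
        show q'' (Ideal.Quotient.mk JC (algebraMap B' _ b) * Ideal.Quotient.mk JC (1 ⊗ₜ x)) = _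
        rw [← map_mul]
        show q (algebraMap B' _ b * (1 ⊗ₜ x)) = _
        simp
    rw [← key, ← he']
    rfl

/-- The lifted algebra with its basis. -/
theorem exists_lifted {B' C A : Type u} [CommRing B'] [CommRing C] [CommRing A] (J : Ideal B') (hJ : J ^ 2 = ⊥)
    [Algebra B' C] [Module.Flat B' C] [Algebra (B' ⧸ J) A] {d : ℕ} (bA : Module.Basis (Fin d) (B' ⧸ J) A)
    (q : C →+* A) (hq : ∀ b, q (algebraMap B' C b) = algebraMap (B' ⧸ J) A (Ideal.Quotient.mk J b))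
    (e : C) (hqe : IsUnit (q e)) (v : Fin d → C) (hli : LinearIndependent (B' ⧸ J) fun j => q (v j))
    (hsp : Submodule.span (B' ⧸ J) (Set.range fun j => q (v j)) = ⊤)
    (hdec : ∀ y, ∃ β : Fin d → B', e * y - ∑ j, algebraMap B' C (β j) * (e * v j) ∈ J.map (algebraMap B' C)) :
    ∃ (A' : Type u) (_ : CommRing A') (_ : Algebra B' A') (a : C →ₐ[B'] A') (q' : A' →+* A)
      (γ : Module.Basis (Fin d) B' A'),
      (∀ r, q' (algebraMap B' A' r) = algebraMap (B' ⧸ J) A (Ideal.Quotient.mk J r)) ∧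
        (∀ y, q' (a y) = q y) ∧ ∀ i, q' (γ i) = bA i := by
  classical
  let JC := J.map (algebraMap B' C)
  have hqJ : ∀ a ∈ JC, q a = 0 := fun a ha => by
    refine (Ideal.map_le_iff_le_comap.2 fun j hj => ?_ : JC ≤ RingHom.ker q) ha
    show q (algebraMap B' C j) = 0
    rw [hq, Ideal.Quotient.eq_zero_iff_mem.2 hj, map_zero]
  have hker : ∀ y, q y = 0 → e * y ∈ JC := fun y hy => by
    obtain ⟨β, hβ⟩ := hdec y
    have h0 := hqJ _ hβ
    simp only [map_sub, map_mul, hy, mul_zero, map_sum, hq, zero_sub, neg_eq_zero] at h0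
    rw [Finset.sum_congr rfl (fun j _ => mul_left_comm _ (q e) _), ← Finset.mul_sum, hqe.mul_right_eq_zero] at h0
    have hβJ : ∀ j, β j ∈ J := fun j => Ideal.Quotient.eq_zero_iff_mem.1
      (Fintype.linearIndependent_iff.1 hli _ (by simpa only [Algebra.smul_def] using h0) j)
    rw [← sub_add_cancel (e * y) (∑ j, algebraMap B' C (β j) * (e * v j))]
    exact JC.add_mem hβ (JC.sum_mem fun j _ => Ideal.mul_mem_right _ _ (Ideal.mem_map_of_mem _ (hβJ j)))
  let A' := Localization.Away e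
  haveI : Module.Flat C A' := IsLocalization.flat A' (Submonoid.powers e)
  haveI : Module.Flat B' A' := Module.Flat.trans B' C A'
  let q' : A' →+* A := IsLocalization.Away.lift e (g := q) hqe
  have hq'C : ∀ y, q' (algebraMap C A' y) = q y := fun y => IsLocalization.Away.lift_eq e hqe y
  have hq'B : ∀ b, q' (algebraMap B' A' b) = algebraMap (B' ⧸ J) A (Ideal.Quotient.mk J b) := fun b => by
    rw [IsScalarTower.algebraMap_apply B' C A', hq'C, hq]
  have hq's : Function.Surjective q' := fun z => by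
    obtain ⟨r, hr⟩ := (Submodule.mem_span_range_iff_exists_fun (B' ⧸ J)).1 (hsp.ge (Submodule.mem_top (x := z)))
    choose β hβ using fun j => Ideal.Quotient.mk_surjective (r j)
    refine ⟨∑ j, algebraMap B' A' (β j) * algebraMap C A' (v j), ?_⟩
    rw [map_sum, ← hr]
    exact Finset.sum_congr rfl fun j _ => by rw [map_mul, hq'B, hq'C, hβ, Algebra.smul_def]
  have hq'k : RingHom.ker q' ≤ J.map (algebraMap B' A') := fun z hz => by
    obtain ⟨y, s, rfl⟩ := IsLocalization.exists_mk'_eq (Submonoid.powers e) z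
    have hqy : q y = 0 := by
      rw [← hq'C, ← IsLocalization.mk'_spec A' y s, map_mul, RingHom.mem_ker.1 hz, zero_mul]
    have h1 : algebraMap C A' (e * y) ∈ J.map (algebraMap B' A') := by
      rw [IsScalarTower.algebraMap_eq B' C A', ← Ideal.map_map]
      exact Ideal.mem_map_of_mem _ (hker y hqy)
    rw [map_mul, ← IsLocalization.mk'_spec A' y s, mul_left_comm] at h1
    exact (Ideal.mul_unit_mem_iff_mem _
      ((IsLocalization.Away.algebraMap_isUnit (S := A') e).mul (IsLocalization.map_units A' s))).1 h1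
  obtain ⟨γ, hγ⟩ := exists_basis_lift J hJ q' hq'B hq's hq'k bA
  exact ⟨A', inferInstance, inferInstance, IsScalarTower.toAlgHom B' C A', q', γ, hq'B, hq'C, hγ⟩

variable {R B : Type u} [CommRing R] [CommRing B] [Algebra R B] {d : ℕ} (U : UnivPt R B d) {σ : Type}
  (χ : MvPolynomial σ R →ₐ[R] U.R₁)
  {D₂ : Type u} [CommRing D₂] [Algebra (MvPolynomial σ R) D₂] [Algebra R D₂]
  [IsScalarTower R (MvPolynomial σ R) D₂] [Module.Flat (MvPolynomial σ R) D₂] (ι : B →ₐ[R] D₂)
  {R' : Type u} [CommRing R'] [Algebra U.R₁ R'] [Algebra R R'] [IsScalarTower R U.R₁ R']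
  [Algebra (MvPolynomial σ R) R']

/-- A point of the chart where the universal family is a slice lifts along square-zero extensions. -/
theorem exists_lift (hr : ∀ r, algebraMap (MvPolynomial σ R) R' r = algebraMap U.R₁ R' (χ r))
    (Θ : R' ⊗[MvPolynomial σ R] D₂ →ₐ[R'] R' ⊗[U.R₁] U.A₁)
    (hΘ : ∀ b, Θ (1 ⊗ₜ ι b) = 1 ⊗ₜ U.pt b) (c : Fin d → B)
    (hc : IsUnit ((Algebra.TensorProduct.basis R' U.β₁).toMatrix fun j => (1 : R') ⊗ₜ[U.R₁] U.pt (c j)).det)
    (e : R' ⊗[MvPolynomial σ R] D₂)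
    (hspan : ∀ x, e * x ∈ Submodule.span R' (Set.range fun j => e * (1 ⊗ₜ ι (c j))))
    (B' : Type u) [CommRing B'] [Algebra R B'] (J : Ideal B') (hJ : J ^ 2 = ⊥) (ψ : R' →ₐ[R] B' ⧸ J)
    (he : IsUnit (ψ (Algebra.leftMulMatrix (Algebra.TensorProduct.basis R' U.β₁) (Θ e)).det)) :
    ∃ φ : U.R₁ →ₐ[R] B', ∀ r, Ideal.Quotient.mk J (φ r) = ψ (algebraMap U.R₁ R' r) := by
  classical
  letI : Algebra U.R₁ (B' ⧸ J) := (ψ.toRingHom.comp (algebraMap U.R₁ R')).toAlgebra
  haveI : IsScalarTower R U.R₁ (B' ⧸ J) := IsScalarTower.of_algebraMap_eq fun r =>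
    ((congrArg ψ (IsScalarTower.algebraMap_apply R U.R₁ R' r).symm).trans (ψ.commutes r)).symm
  let bR := Algebra.TensorProduct.basis R' U.β₁
  let bB : Module.Basis (Fin d) (B' ⧸ J) ((B' ⧸ J) ⊗[U.R₁] U.A₁) := Algebra.TensorProduct.basis (B' ⧸ J) U.β₁
  let ψ₁ : R' →ₐ[U.R₁] B' ⧸ J := { ψ.toRingHom with commutes' := fun r => rfl }
  let ρ : R' ⊗[U.R₁] U.A₁ →+* (B' ⧸ J) ⊗[U.R₁] U.A₁ :=
    (Algebra.TensorProduct.map ψ₁ (AlgHom.id U.R₁ U.A₁)).toRingHom
  have hρalg : ∀ r, ρ (algebraMap R' _ r) = algebraMap (B' ⧸ J) _ (ψ r) := fun r => by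
    show Algebra.TensorProduct.map ψ₁ _ (r ⊗ₜ 1) = ψ r ⊗ₜ 1
    rw [Algebra.TensorProduct.map_tmul, map_one]
    rfl
  have hρb : ∀ i, ρ (bR i) = bB i := fun i => by
    show Algebra.TensorProduct.map ψ₁ _ (bR i) = _
    rw [Algebra.TensorProduct.basis_apply, Algebra.TensorProduct.map_tmul, map_one, Algebra.TensorProduct.basis_apply]
    rfl
  have hρp : ∀ x : U.A₁, ρ (1 ⊗ₜ x) = 1 ⊗ₜ x := fun x => by
    show Algebra.TensorProduct.map ψ₁ _ (1 ⊗ₜ x) = _
    rw [Algebra.TensorProduct.map_tmul, map_one]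
    rfl
  let γ : Fin d → (B' ⧸ J) ⊗[U.R₁] U.A₁ := fun j => ρ (1 ⊗ₜ U.pt (c j))
  have hγ : IsUnit (bB.toMatrix γ).det := by
    rw [← toMatrix_map bR bB ψ.toRingHom ρ hρalg hρb fun j => (1 : R') ⊗ₜ[U.R₁] U.pt (c j)]
    exact hc.map ψ.toRingHom
  obtain ⟨hγli, hγsp⟩ := (Module.Basis.is_basis_iff_det bB).2 (by rwa [Module.Basis.det_apply])
  -- the parameters lifted
  choose χv hχv using fun s : σ => Ideal.Quotient.mk_surjective (I := J) (ψ (algebraMap U.R₁ R' (χ (MvPolynomial.X s))))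
  let χ' : MvPolynomial σ R →ₐ[R] B' := MvPolynomial.aeval χv
  letI : Algebra (MvPolynomial σ R) B' := χ'.toRingHom.toAlgebra
  haveI : IsScalarTower R (MvPolynomial σ R) B' := IsScalarTower.of_algebraMap_eq fun r => (χ'.commutes r).symm
  have hmkχ : ∀ r, Ideal.Quotient.mk J (χ' r) = ψ (algebraMap (MvPolynomial σ R) R' r) := fun r => by
    rw [hr]
    have : (Ideal.Quotient.mkₐ R J).comp χ' = ψ.comp ((IsScalarTower.toAlgHom R U.R₁ R').comp χ) :=
      MvPolynomial.algHom_ext fun s => by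
        simp only [AlgHom.comp_apply, χ', MvPolynomial.aeval_X]
        exact hχv s
    exact DFunLike.congr_fun this r
  let g₂ : D₂ →+* (B' ⧸ J) ⊗[U.R₁] U.A₁ :=
    ρ.comp (Θ.toRingHom.comp (Algebra.TensorProduct.includeRight : D₂ →ₐ[MvPolynomial σ R] _).toRingHom)
  obtain ⟨q, hqt⟩ := exists_tensor_lift (P := MvPolynomial σ R)
    ((algebraMap (B' ⧸ J) ((B' ⧸ J) ⊗[U.R₁] U.A₁)).comp (Ideal.Quotient.mk J)) g₂ fun r => by
      show ρ (Θ ((1 : R') ⊗ₜ algebraMap (MvPolynomial σ R) D₂ r)) = algebraMap (B' ⧸ J) _ (Ideal.Quotient.mk J (χ' r))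
      rw [hmkχ, ← hρalg, ← Θ.commutes]
      congr 2
      rw [Algebra.TensorProduct.algebraMap_apply, Algebra.algebraMap_self, RingHom.id_apply,
        Algebra.algebraMap_eq_smul_one, Algebra.algebraMap_eq_smul_one, TensorProduct.smul_tmul]
  have hqt' : ∀ b x, q (b ⊗ₜ x) = algebraMap (B' ⧸ J) _ (Ideal.Quotient.mk J b) * ρ (Θ (1 ⊗ₜ x)) := hqt
  have hqalg : ∀ b, q (algebraMap B' _ b) = algebraMap (B' ⧸ J) _ (Ideal.Quotient.mk J b) := fun b => by
    rw [Algebra.TensorProduct.algebraMap_apply, hqt', show ((1 : R') ⊗ₜ[MvPolynomial σ R] (1 : D₂)) = 1 from rfl,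
      map_one, map_one, mul_one]
    rfl
  have hqι : ∀ b, q (1 ⊗ₜ ι b) = 1 ⊗ₜ U.pt b := fun b => by
    rw [hqt', map_one, map_one, one_mul, hΘ, hρp]
  obtain ⟨e', hdec, hqe'⟩ := exists_lift_decomp (B' := B') J ψ.toRingHom hmkχ (fun j => ι (c j)) e hspan
  have hqeq : q e' = ρ (Θ e) := hqe' _ q (ρ.comp Θ.toRingHom)
    (fun a ha => by rw [hqalg, Ideal.Quotient.eq_zero_iff_mem.2 ha, map_zero]) fun r b x hb => by
      show q _ = ρ (Θ (r ⊗ₜ x))
      rw [hqt', show r ⊗ₜ[MvPolynomial σ R] x = algebraMap R' _ r * (1 ⊗ₜ x) from by simp,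
        map_mul, Θ.commutes, map_mul, hρalg, hb]
      rfl
  have hqe : IsUnit (q e') := by
    obtain ⟨v, hv⟩ := exists_mul_eq_det bR (Θ e)
    have := congrArg ρ hv
    rw [map_mul, hρalg, ← hqeq] at this
    exact isUnit_of_mul_isUnit_left (this ▸ he.map (algebraMap (B' ⧸ J) _))
  have hγeq : (fun j => q ((1 : B') ⊗ₜ ι (c j))) = γ := funext fun j => by rw [hqι]; exact (hρp _).symm
  obtain ⟨A', _, _, al, q', γ', hq'B, hq'C, hγ'⟩ := exists_lifted J hJ bB q hqalg e' hqe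
    (fun j => (1 : B') ⊗ₜ[MvPolynomial σ R] ι (c j)) (hγeq ▸ hγli) (hγeq ▸ hγsp) hdec
  letI : Algebra R A' := ((algebraMap B' A').comp (algebraMap R B')).toAlgebra
  haveI : IsScalarTower R B' A' := IsScalarTower.of_algebraMap_eq fun _ => rfl
  let z : B →ₐ[R] A' :=
    { (al.toRingHom.comp ((Algebra.TensorProduct.includeRight : D₂ →ₐ[MvPolynomial σ R]
        B' ⊗[MvPolynomial σ R] D₂).toRingHom.comp ι.toRingHom)) with
      commutes' := fun r => by
        show al ((1 : B') ⊗ₜ ι (algebraMap R B r)) = algebraMap B' A' (algebraMap R B' r)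
        rw [ι.commutes, ← al.commutes]
        congr 1
        rw [IsScalarTower.algebraMap_apply R (MvPolynomial σ R) D₂, Algebra.TensorProduct.algebraMap_apply,
          IsScalarTower.algebraMap_apply R (MvPolynomial σ R) B', Algebra.algebraMap_self, RingHom.id_apply,
          Algebra.algebraMap_eq_smul_one (A := D₂), Algebra.algebraMap_eq_smul_one (A := B'), TensorProduct.smul_tmul] }
  have hz : ∀ b, q' (z b) = 1 ⊗ₜ U.pt b := fun b => (hq'C _).trans (hqι b)
  obtain ⟨φ, ⟨μ, hμ, hμb, hμz⟩, -⟩ := U.univ B' A' γ' z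
  refine ⟨φ, fun r => ?_⟩
  -- compare with the given point by uniqueness
  let zB : B →ₐ[R] (B' ⧸ J) ⊗[U.R₁] U.A₁ :=
    { ((Algebra.TensorProduct.includeRight : U.A₁ →ₐ[U.R₁] (B' ⧸ J) ⊗[U.R₁] U.A₁).toRingHom.comp U.pt.toRingHom) with
      commutes' := fun r => by
        show (1 : B' ⧸ J) ⊗ₜ[U.R₁] U.pt (algebraMap R B r) = algebraMap R _ r
        rw [U.pt.commutes, IsScalarTower.algebraMap_apply R U.R₁ U.A₁, inc_algebraMap,
          IsScalarTower.algebraMap_apply R (B' ⧸ J) ((B' ⧸ J) ⊗[U.R₁] U.A₁),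
          IsScalarTower.algebraMap_apply R U.R₁ (B' ⧸ J)] }
  obtain ⟨φ₀, -, huniq⟩ := U.univ (B' ⧸ J) ((B' ⧸ J) ⊗[U.R₁] U.A₁) bB zB
  have e1 : (Ideal.Quotient.mkₐ R J).comp φ = φ₀ := huniq _ ⟨q'.comp μ,
    fun r => by
      show q' (μ (algebraMap U.R₁ U.A₁ r)) = _
      rw [hμ, hq'B]
      rfl,
    fun i => by
      show q' (μ (U.β₁ i)) = _
      rw [hμb, hγ'],
    fun x => by
      show q' (μ (U.pt x)) = _
      rw [hμz, hz]
      rfl⟩
  have e2 : IsScalarTower.toAlgHom R U.R₁ (B' ⧸ J) = φ₀ := huniq _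
    ⟨(Algebra.TensorProduct.includeRight : U.A₁ →ₐ[U.R₁] (B' ⧸ J) ⊗[U.R₁] U.A₁).toRingHom,
    fun r => by
      show (1 : B' ⧸ J) ⊗ₜ[U.R₁] algebraMap U.R₁ U.A₁ r = _
      rw [inc_algebraMap]
      rfl,
    fun i => by
      show (1 : B' ⧸ J) ⊗ₜ[U.R₁] U.β₁ i = _
      rw [Algebra.TensorProduct.basis_apply],
    fun x => rfl⟩
  exact DFunLike.congr_fun (e1.trans e2.symm) r

end Groth.Agent.StFib.BGAtlas

end
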