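import Groth.Agent.StFib.BGAtlas.ResAlg
import Groth.Prelude.Def_AlgGrp
import Mathlib.AlgebraicGeometry.Morphisms.Affine
import Mathlib.CategoryTheory.Monoidal.Cartesian.Over

/-!
# The charts of based algebras with a point, as schemes with an action
-/

set_option autoImplicit false
set_option linter.unusedVariables false
set_option linter.style.haveILetI false
set_option backward.isDefEq.respectTransparency false
set_option backward.isDefEq.respectTransparency.types false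

universe u

open CategoryTheory CategoryTheory.Limits AlgebraicGeometry Opposite MonoidalCategory CartesianMonoidalCategory MonObj

noncomputable section

namespace Groth.Agent.StFib.BGAtlas

variable {S : Scheme.{u}}

/-- An action given by natural operations on points. -/
def mkAction (G X : Over S) [GrpObj G] (sm : ∀ T : Over S, (T ⟶ G) → (T ⟶ X) → (T ⟶ X))
    (nat : ∀ (T T' : Over S) (k : T' ⟶ T) g x, k ≫ sm T g x = sm T' (k ≫ g) (k ≫ x))
    (hone : ∀ T x, sm T 1 x = x) (hmul : ∀ T g g' x, sm T (g * g') x = sm T g (sm T g' x)) :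
    AlgGrp.Action G X where
  act := sm _ (fst G X) (snd G X)
  one_act := by
    rw [nat, whiskerRight_fst, whiskerRight_snd, toUnit_unique (fst (𝟙_ (Over S)) X) (toUnit _),
      ← Hom.one_def, hone, leftUnitor_hom]
  mul_act := by
    have e : μ[G] = fst G G * snd G G := by rw [Hom.mul_def, lift_fst_snd, Category.id_comp]
    have w1 : G ◁ sm _ (fst G X) (snd G X) ≫ sm _ (fst G X) (snd G X) =
        sm _ (fst G (G ⊗ X)) (sm _ (snd G (G ⊗ X) ≫ fst G X) (snd G (G ⊗ X) ≫ snd G X)) := by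
      rw [nat, whiskerLeft_fst, whiskerLeft_snd, nat]
    rw [w1, nat _ _ (α_ G G X).hom, nat _ _ (α_ G G X).hom, associator_hom_fst, associator_hom_snd_fst,
      associator_hom_snd_snd, nat, whiskerRight_fst, whiskerRight_snd, e, comp_mul, hmul]

theorem lift_act {G X : Over S} [GrpObj G] (sm : ∀ T : Over S, (T ⟶ G) → (T ⟶ X) → (T ⟶ X))
    (nat : ∀ (T T' : Over S) (k : T' ⟶ T) g x, k ≫ sm T g x = sm T' (k ≫ g) (k ≫ x))
    (hone : ∀ T x, sm T 1 x = x) (hmul : ∀ T g g' x, sm T (g * g') x = sm T g (sm T g' x))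
    {T : Over S} (g : T ⟶ G) (x : T ⟶ X) :
    lift g x ≫ (mkAction G X sm nat hone hmul).act = sm T g x := by
  change lift g x ≫ sm _ (fst G X) (snd G X) = _
  rw [nat, lift_fst, lift_snd]

section affine

variable {O : S.Opens} (hO : IsAffineOpen O)

/-- An algebra over the sections of an affine open, as a scheme over the base. -/
abbrev Pt (C : Type u) [CommRing C] [Algebra Γ(S, O) C] : Over S :=
  Over.mk (Spec.map (CommRingCat.ofHom (algebraMap Γ(S, O) C)) ≫ hO.fromSpec)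

variable {C C' C'' : Type u} [CommRing C] [Algebra Γ(S, O) C] [CommRing C'] [Algebra Γ(S, O) C']
  [CommRing C''] [Algebra Γ(S, O) C'']

/-- Maps of algebras give maps over the base. -/
def ptMap (h : C →ₐ[Γ(S, O)] C') : Pt hO C' ⟶ Pt hO C :=
  Over.homMk (Spec.map (CommRingCat.ofHom h.toRingHom)) (by
    change Spec.map _ ≫ Spec.map _ ≫ hO.fromSpec = Spec.map _ ≫ hO.fromSpec
    rw [← Category.assoc, ← Spec.map_comp, ← CommRingCat.ofHom_comp]
    exact congrArg (fun t => Spec.map (CommRingCat.ofHom t) ≫ hO.fromSpec) h.comp_algebraMap)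

theorem ptMap_comp (h : C →ₐ[Γ(S, O)] C') (h' : C' →ₐ[Γ(S, O)] C'') :
    ptMap hO (h'.comp h) = ptMap hO h' ≫ ptMap hO h := by
  ext1
  change Spec.map (CommRingCat.ofHom (h'.toRingHom.comp h.toRingHom)) = _
  rw [CommRingCat.ofHom_comp, Spec.map_comp]
  rfl

theorem ptMap_id : ptMap hO (AlgHom.id Γ(S, O) C) = 𝟙 _ := by
  ext1
  change Spec.map (CommRingCat.ofHom (RingHom.id C)) = _
  rw [CommRingCat.ofHom_id, Spec.map_id]
  rfl

theorem ptMap_bijective (y : Pt hO C' ⟶ Pt hO C) : ∃! h : C →ₐ[Γ(S, O)] C', ptMap hO h = y := by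
  obtain ⟨φ, hφ⟩ := Spec.map_surjective y.left
  have hw : (y.left ≫ Spec.map (CommRingCat.ofHom (algebraMap Γ(S, O) C))) ≫ hO.fromSpec =
      Spec.map (CommRingCat.ofHom (algebraMap Γ(S, O) C')) ≫ hO.fromSpec := (Category.assoc _ _ _).trans (Over.w y)
  have h := (cancel_mono hO.fromSpec).1 hw
  rw [← hφ, ← Spec.map_comp] at h
  have h' := congrArg CommRingCat.Hom.hom (Spec.map_injective h)
  refine ⟨{ φ.hom with
    commutes' := fun r => DFunLike.congr_fun h' r }, Over.OverMorphism.ext hφ, fun k hk => AlgHom.ext fun c => ?_⟩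
  have hk' : CommRingCat.ofHom k.toRingHom = φ :=
    Spec.map_injective ((congrArg CommaMorphism.left hk).trans hφ.symm)
  exact DFunLike.congr_fun (congrArg CommRingCat.Hom.hom hk') c

/-- A map to an affine chart through which all such maps factor uniquely. -/
def IsUniv {T : Over S} (u : T ⟶ Pt hO C) : Prop :=
  ∀ (D : Type u) [CommRing D] [Algebra Γ(S, O) D] (y : T ⟶ Pt hO D), ∃! h : D →ₐ[Γ(S, O)] C, u ≫ ptMap hO h = y

theorem exists_isUniv {T : Over S} (x : T ⟶ Pt hO C') :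
    ∃ (C : Type u) (_ : CommRing C) (_ : Algebra Γ(S, O) C) (u : T ⟶ Pt hO C), IsUniv hO u := by
  have key : ∀ (D : CommRingCat.{u}) (y : T.left ⟶ Spec D), ∃! φ : D ⟶ Γ(T.left, ⊤),
      T.left.toSpecΓ ≫ Spec.map φ = y := fun D y => by
    refine ⟨(Scheme.ΓSpecIso D).inv ≫ y.appTop, ?_, fun φ hφ => ?_⟩
    · change T.left.toSpecΓ ≫ Spec.map ((Scheme.ΓSpecIso D).inv ≫ y.appTop) = y
      rw [Spec.map_comp, ← Scheme.toSpecΓ_naturality_assoc, ← SpecMap_ΓSpecIso_hom, ← Spec.map_comp,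
        Iso.inv_hom_id, Spec.map_id, Category.comp_id]
    · rw [← hφ, Scheme.Hom.comp_appTop, Scheme.toSpecΓ_appTop, Scheme.ΓSpecIso_naturality,
        Iso.inv_hom_id_assoc]
  obtain ⟨θ, hθ, -⟩ := key _ (x.left ≫ Spec.map (CommRingCat.ofHom (algebraMap Γ(S, O) C')))
  letI : Algebra Γ(S, O) Γ(T.left, ⊤) := θ.hom.toAlgebra
  have hθ' : (CommRingCat.ofHom (algebraMap Γ(S, O) Γ(T.left, ⊤))) = θ := rfl
  have hu : T.left.toSpecΓ ≫ (Pt hO Γ(T.left, ⊤)).hom = T.hom := by
    change T.left.toSpecΓ ≫ Spec.map (CommRingCat.ofHom (algebraMap Γ(S, O) Γ(T.left, ⊤))) ≫ hO.fromSpec = _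
    rw [hθ', ← Category.assoc, hθ, Category.assoc]
    exact Over.w x
  refine ⟨Γ(T.left, ⊤), inferInstance, inferInstance, Over.homMk T.left.toSpecΓ hu, fun D _ _ y => ?_⟩
  obtain ⟨φ, hφ, hφu⟩ := key (CommRingCat.of D) y.left
  have hw : (T.left.toSpecΓ ≫ Spec.map (CommRingCat.ofHom (algebraMap Γ(S, O) D) ≫ φ)) ≫ hO.fromSpec =
      (T.left.toSpecΓ ≫ Spec.map θ) ≫ hO.fromSpec := by
    rw [hθ, Spec.map_comp, ← Category.assoc T.left.toSpecΓ, hφ, Category.assoc]
    exact (Over.w y).trans (hu.symm.trans (by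
      change T.left.toSpecΓ ≫ Spec.map θ ≫ hO.fromSpec = _
      rw [← Category.assoc, hθ]))
  obtain ⟨θ', -, hθ'u⟩ := key _ (T.left.toSpecΓ ≫ Spec.map θ)
  have he : CommRingCat.ofHom (algebraMap Γ(S, O) D) ≫ φ = θ :=
    (hθ'u _ ((cancel_mono hO.fromSpec).1 hw)).trans (hθ'u θ rfl).symm
  refine ⟨{ φ.hom with
    commutes' := fun r => DFunLike.congr_fun (congrArg CommRingCat.Hom.hom he) r }, Over.OverMorphism.ext hφ,
    fun k hk => AlgHom.ext fun c => ?_⟩
  exact DFunLike.congr_fun (congrArg CommRingCat.Hom.hom (hφu _ (congrArg CommaMorphism.left hk))) c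

variable (G : Over S) [IsAffineHom G.hom]

/-- The sections of the group over an affine open. -/
abbrev secRing (O : S.Opens) : Type u := Γ(G.left, G.hom ⁻¹ᵁ O)

instance algSecRing (O : S.Opens) : Algebra Γ(S, O) (secRing G O) := (G.hom.app O).hom.toAlgebra

theorem SpecMap_algSecRing :
    Spec.map (CommRingCat.ofHom (algebraMap Γ(S, O) (secRing G O))) ≫ hO.fromSpec =
      (hO.preimage G.hom).fromSpec ≫ G.hom := by
  rw [← IsAffineOpen.SpecMap_appLE_fromSpec G.hom hO (hO.preimage G.hom) le_rfl, ← Scheme.Hom.app_eq_appLE]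
  rfl

/-- The part of the group over an affine open. -/
def gι : Pt hO (secRing G O) ⟶ G :=
  Over.homMk (hO.preimage G.hom).fromSpec (SpecMap_algSecRing hO G).symm

theorem existsUnique_gι {T : Over S} (x : T ⟶ Pt hO C) (g : T ⟶ G) :
    ∃! g' : T ⟶ Pt hO (secRing G O), g' ≫ gι hO G = g := by
  have hr : Set.range g.left ⊆ Set.range (hO.preimage G.hom).fromSpec := by
    rw [IsAffineOpen.range_fromSpec]
    rintro _ ⟨t, rfl⟩
    show G.hom (g.left t) ∈ O
    rw [← Scheme.Hom.comp_apply, show g.left ≫ G.hom = T.hom from Over.w g, ← Over.w x,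
      Scheme.Hom.comp_apply]
    show (Spec.map _ ≫ hO.fromSpec) _ ∈ O
    rw [Scheme.Hom.comp_apply, ← SetLike.mem_coe, ← IsAffineOpen.range_fromSpec hO]
    exact ⟨_, rfl⟩
  let l := IsOpenImmersion.lift _ g.left hr
  have hl : l ≫ (hO.preimage G.hom).fromSpec = g.left := IsOpenImmersion.lift_fac _ _ hr
  refine ⟨Over.homMk l (by
    change l ≫ Spec.map _ ≫ hO.fromSpec = T.hom
    rw [SpecMap_algSecRing hO G, ← Category.assoc, hl]
    exact Over.w g), Over.OverMorphism.ext hl, fun k hk => Over.OverMorphism.ext ?_⟩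
  exact (cancel_mono (hO.preimage G.hom).fromSpec).1 ((congrArg CommaMorphism.left hk).trans hl.symm)

theorem gι_ptMap_inj {T : Over S} {u : T ⟶ Pt hO C} (hu : IsUniv hO u) {a b : secRing G O →ₐ[Γ(S, O)] C}
    (h : u ≫ ptMap hO a ≫ gι hO G = u ≫ ptMap hO b ≫ gι hO G) : a = b := by
  have e := (existsUnique_gι hO G u _).unique (y₁ := u ≫ ptMap hO a) (y₂ := u ≫ ptMap hO b)
    (by rw [Category.assoc]) (by rw [Category.assoc]; exact h.symm)
  exact (hu _ _).unique e rfl

theorem exists_gι_ptMap {T : Over S} {u : T ⟶ Pt hO C} (hu : IsUniv hO u) (g : T ⟶ G) :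
    ∃ a : secRing G O →ₐ[Γ(S, O)] C, u ≫ ptMap hO a ≫ gι hO G = g := by
  obtain ⟨g', hg', -⟩ := existsUnique_gι hO G u g
  obtain ⟨a, ha, -⟩ := hu _ g'
  exact ⟨a, by rw [← Category.assoc, ha, hg']⟩

theorem isUniv_id : IsUniv hO (𝟙 (Pt hO C)) := fun D _ _ y => by
  simp only [Category.id_comp]
  exact ptMap_bijective hO y

variable [GrpObj G]

theorem existsUnique_ptMul (g : Pt hO C ⟶ G) :
    ∃! a : secRing G O →ₐ[Γ(S, O)] C, ptMap hO a ≫ gι hO G = g := by
  obtain ⟨a, ha⟩ := exists_gι_ptMap hO G (isUniv_id hO) g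
  rw [Category.id_comp] at ha
  exact ⟨a, ha, fun b hb => gι_ptMap_inj hO G (isUniv_id hO) (by rw [Category.id_comp, Category.id_comp, ha, hb])⟩

/-- The multiplication of the points with values in an algebra. -/
def grpPts : GrpPts Γ(S, O) (secRing G O) where
  mul C _ _ a b := (existsUnique_ptMul hO G ((ptMap hO a ≫ gι hO G) * (ptMap hO b ≫ gι hO G))).choose
  one C _ _ := (existsUnique_ptMul hO G (1 : Pt hO C ⟶ G)).choose
  mul_nat C C' _ _ _ _ h a b := by
    have e := (existsUnique_ptMul hO G ((ptMap hO a ≫ gι hO G) * (ptMap hO b ≫ gι hO G))).choose_spec.1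
    refine (existsUnique_ptMul hO G _).choose_spec.2 _ ?_
    show ptMap hO (h.comp _) ≫ gι hO G = _
    rw [ptMap_comp, Category.assoc, e, comp_mul, ptMap_comp, ptMap_comp, Category.assoc, Category.assoc]
  one_nat C C' _ _ _ _ h := by
    have e := (existsUnique_ptMul hO G (1 : Pt hO C ⟶ G)).choose_spec.1
    refine (existsUnique_ptMul hO G _).choose_spec.2 _ ?_
    show ptMap hO (h.comp _) ≫ gι hO G = _
    rw [ptMap_comp, Category.assoc, e, comp_one]
  one_mul C _ _ a := by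
    refine ((existsUnique_ptMul hO G _).choose_spec.2 a ?_).symm
    show ptMap hO a ≫ gι hO G = _
    rw [(existsUnique_ptMul hO G (1 : Pt hO C ⟶ G)).choose_spec.1, _root_.one_mul]
  mul_assoc C _ _ a b c := by
    have e := fun p q : secRing G O →ₐ[Γ(S, O)] C =>
      (existsUnique_ptMul hO G ((ptMap hO p ≫ gι hO G) * (ptMap hO q ≫ gι hO G))).choose_spec.1
    refine (existsUnique_ptMul hO G _).unique (e _ _) ?_
    rw [e, e, e, _root_.mul_assoc]
  mul_cancel C _ _ a b c h := by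
    have e := fun p q : secRing G O →ₐ[Γ(S, O)] C =>
      (existsUnique_ptMul hO G ((ptMap hO p ≫ gι hO G) * (ptMap hO q ≫ gι hO G))).choose_spec.1
    have h' := congrArg (fun t => ptMap hO t ≫ gι hO G) h
    simp only [e, mul_left_inj] at h'
    exact gι_ptMap_inj hO G (isUniv_id hO) (by rw [Category.id_comp, Category.id_comp, h'])

theorem grpPts_mul (a b : secRing G O →ₐ[Γ(S, O)] C) :
    ptMap hO ((grpPts hO G).mul C a b) ≫ gι hO G = (ptMap hO a ≫ gι hO G) * (ptMap hO b ≫ gι hO G) :=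
  (existsUnique_ptMul hO G _).choose_spec.1

theorem grpPts_one : ptMap hO ((grpPts hO G).one C) ≫ gι hO G = 1 :=
  (existsUnique_ptMul hO G _).choose_spec.1

variable {d : ℕ} (U : UnivPt Γ(S, O) (secRing G O) d)

/-- The chart. -/
abbrev chart : Over S := Pt hO U.R₁

theorem existsUnique_smulT {T : Over S} (g : T ⟶ G) (x : T ⟶ chart hO G U) :
    ∃! y : T ⟶ chart hO G U, ∀ (C : Type u) [CommRing C] [Algebra Γ(S, O) C] (u : T ⟶ Pt hO C)
      (a : secRing G O →ₐ[Γ(S, O)] C) (φ : U.R₁ →ₐ[Γ(S, O)] C),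
      u ≫ ptMap hO a ≫ gι hO G = g → u ≫ ptMap hO φ = x → y = u ≫ ptMap hO (U.smul (grpPts hO G) a φ) := by
  obtain ⟨C₀, _, _, u₀, hu₀⟩ := exists_isUniv hO x
  obtain ⟨a₀, ha₀⟩ := exists_gι_ptMap hO G hu₀ g
  obtain ⟨φ₀, hφ₀, -⟩ := hu₀ _ x
  refine ⟨u₀ ≫ ptMap hO (U.smul (grpPts hO G) a₀ φ₀), fun C _ _ u a φ ha hφ => ?_,
    fun y hy => hy C₀ u₀ a₀ φ₀ ha₀ hφ₀⟩
  obtain ⟨k, hk, -⟩ := hu₀ _ u
  subst hk
  rw [Category.assoc, ← ptMap_comp, UnivPt.comp_smul]
  have h1 : a₀ = k.comp a := gι_ptMap_inj hO G hu₀ (by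
    rw [ha₀, ptMap_comp, Category.assoc, ← ha, Category.assoc])
  have h2 : φ₀ = k.comp φ := (hu₀ _ x).unique hφ₀ (by rw [ptMap_comp, ← Category.assoc, hφ])
  rw [← h1, ← h2]

/-- The translate of a point of the chart. -/
def smulT (T : Over S) (g : T ⟶ G) (x : T ⟶ chart hO G U) : T ⟶ chart hO G U :=
  (existsUnique_smulT hO G U g x).choose

theorem smulT_eq {T : Over S} (u : T ⟶ Pt hO C) (a : secRing G O →ₐ[Γ(S, O)] C) (φ : U.R₁ →ₐ[Γ(S, O)] C)
    {g : T ⟶ G} {x : T ⟶ chart hO G U} (ha : u ≫ ptMap hO a ≫ gι hO G = g) (hφ : u ≫ ptMap hO φ = x) :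
    smulT hO G U T g x = u ≫ ptMap hO (U.smul (grpPts hO G) a φ) :=
  (existsUnique_smulT hO G U g x).choose_spec.1 C u a φ ha hφ

theorem comp_smulT (T T' : Over S) (k : T' ⟶ T) (g : T ⟶ G) (x : T ⟶ chart hO G U) :
    k ≫ smulT hO G U T g x = smulT hO G U T' (k ≫ g) (k ≫ x) := by
  obtain ⟨C, _, _, u, hu⟩ := exists_isUniv hO x
  obtain ⟨a, ha⟩ := exists_gι_ptMap hO G hu g
  obtain ⟨φ, hφ, -⟩ := hu _ x
  rw [smulT_eq hO G U u a φ ha hφ, smulT_eq hO G U (k ≫ u) a φ (by rw [Category.assoc, ha])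
    (by rw [Category.assoc, hφ]), Category.assoc]

theorem one_smulT (T : Over S) (x : T ⟶ chart hO G U) : smulT hO G U T 1 x = x := by
  obtain ⟨C, _, _, u, hu⟩ := exists_isUniv hO x
  obtain ⟨φ, hφ, -⟩ := hu _ x
  rw [smulT_eq hO G U u ((grpPts hO G).one C) φ (by rw [grpPts_one, comp_one]) hφ, UnivPt.one_smul', hφ]

theorem mul_smulT (T : Over S) (g g' : T ⟶ G) (x : T ⟶ chart hO G U) :
    smulT hO G U T (g * g') x = smulT hO G U T g (smulT hO G U T g' x) := by
  obtain ⟨C, _, _, u, hu⟩ := exists_isUniv hO x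
  obtain ⟨a, ha⟩ := exists_gι_ptMap hO G hu g
  obtain ⟨a', ha'⟩ := exists_gι_ptMap hO G hu g'
  obtain ⟨φ, hφ, -⟩ := hu _ x
  rw [smulT_eq hO G U u a' φ ha' hφ, smulT_eq hO G U u a _ ha rfl,
    smulT_eq hO G U u ((grpPts hO G).mul C a a') φ (by rw [grpPts_mul, comp_mul, ha, ha']) hφ,
    UnivPt.mul_smul']

/-- The action on the chart. -/
def chartAction : AlgGrp.Action G (chart hO G U) :=
  mkAction G _ (smulT hO G U) (comp_smulT hO G U) (one_smulT hO G U) (mul_smulT hO G U)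

theorem lift_chartAction {T : Over S} (g : T ⟶ G) (x : T ⟶ chart hO G U) :
    lift g x ≫ (chartAction hO G U).act = smulT hO G U T g x :=
  lift_act _ _ _ _ g x

theorem chartAction_free (hd : 0 < d) {T : Over S} (g g' : T ⟶ G) (x : T ⟶ chart hO G U)
    (h : lift g x ≫ (chartAction hO G U).act = lift g' x ≫ (chartAction hO G U).act) : g = g' := by
  obtain ⟨C, _, _, u, hu⟩ := exists_isUniv hO x
  obtain ⟨a, ha⟩ := exists_gι_ptMap hO G hu g
  obtain ⟨a', ha'⟩ := exists_gι_ptMap hO G hu g'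
  obtain ⟨φ, hφ, -⟩ := hu _ x
  rw [lift_chartAction, lift_chartAction, smulT_eq hO G U u a φ ha hφ, smulT_eq hO G U u a' φ ha' hφ] at h
  rw [← ha, ← ha', U.smul_left_injective (grpPts hO G) hd ((hu _ _).unique h rfl)]

end affine

end Groth.Agent.StFib.BGAtlas

end
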