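import Groth.Agent.StFib.BGAtlas.Univ
import Groth.Agent.StFib.BGAtlas.Lifting

/-!
# Translation of a based algebra with a point by points of a group
-/

set_option autoImplicit false
set_option linter.unusedVariables false
set_option linter.style.haveILetI false
set_option backward.isDefEq.respectTransparency false
set_option backward.isDefEq.respectTransparency.types false

universe u

open TensorProduct

noncomputable section

namespace Groth.Agent.StFib.BGAtlas

/-- A multiplication on the points of an algebra, natural in the coefficients. -/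
structure GrpPts (R B : Type u) [CommRing R] [CommRing B] [Algebra R B] where
  mul : ∀ (C : Type u) [CommRing C] [Algebra R C], (B →ₐ[R] C) → (B →ₐ[R] C) → (B →ₐ[R] C)
  one : ∀ (C : Type u) [CommRing C] [Algebra R C], B →ₐ[R] C
  mul_nat : ∀ (C C' : Type u) [CommRing C] [Algebra R C] [CommRing C'] [Algebra R C'] (h : C →ₐ[R] C')
    (g g' : B →ₐ[R] C), h.comp (mul C g g') = mul C' (h.comp g) (h.comp g')
  one_nat : ∀ (C C' : Type u) [CommRing C] [Algebra R C] [CommRing C'] [Algebra R C'] (h : C →ₐ[R] C'),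
    h.comp (one C) = one C'
  one_mul : ∀ (C : Type u) [CommRing C] [Algebra R C] (g : B →ₐ[R] C), mul C (one C) g = g
  mul_assoc : ∀ (C : Type u) [CommRing C] [Algebra R C] (g g' g'' : B →ₐ[R] C),
    mul C (mul C g g') g'' = mul C g (mul C g' g'')
  mul_cancel : ∀ (C : Type u) [CommRing C] [Algebra R C] (g g' g'' : B →ₐ[R] C),
    mul C g g'' = mul C g' g'' → g = g'

namespace UnivPt

variable {R B : Type u} [CommRing R] [CommRing B] [Algebra R B] {d : ℕ} (U : UnivPt R B d)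

/-- A point of the chart is described by a based algebra with a point. -/
def Rel {C : Type u} [CommRing C] [Algebra R C] (φ : U.R₁ →ₐ[R] C) (A : Type u) [CommRing A] [Algebra C A]
    [Algebra R A] (b : Module.Basis (Fin d) C A) (z : B →ₐ[R] A) : Prop :=
  ∃ μ : U.A₁ →+* A, (∀ r, μ (algebraMap U.R₁ U.A₁ r) = algebraMap C A (φ r)) ∧ (∀ i, μ (U.β₁ i) = b i) ∧
    ∀ x, μ (U.pt x) = z x

variable {U} {C C' : Type u} [CommRing C] [Algebra R C] [CommRing C'] [Algebra R C']

theorem Rel.z_unique {φ : U.R₁ →ₐ[R] C} {A : Type u} [CommRing A] [Algebra C A] [Algebra R A]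
    {b : Module.Basis (Fin d) C A} {z z' : B →ₐ[R] A} (h : U.Rel φ A b z) (h' : U.Rel φ A b z') : z = z' := by
  obtain ⟨μ, hμ, hμb, hμz⟩ := h
  obtain ⟨μ', hμ', hμb', hμz'⟩ := h'
  have e : ∀ a, μ a = μ' a := fun a => by
    rw [← U.β₁.sum_repr a, map_sum, map_sum]
    exact Finset.sum_congr rfl fun i _ => by rw [Algebra.smul_def, map_mul, map_mul, hμ, hμ', hμb, hμb']
  exact AlgHom.ext fun x => (hμz x).symm.trans ((e _).trans (hμz' x))

theorem Rel.map {φ : U.R₁ →ₐ[R] C} {A A' : Type u} [CommRing A] [Algebra C A] [Algebra R A]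
    [CommRing A'] [Algebra C' A'] [Algebra R A'] {b : Module.Basis (Fin d) C A} {b' : Module.Basis (Fin d) C' A'}
    {z : B →ₐ[R] A} {z' : B →ₐ[R] A'} (h : U.Rel φ A b z) (k : C →ₐ[R] C') (ν : A →+* A')
    (hν : ∀ c, ν (algebraMap C A c) = algebraMap C' A' (k c)) (hνb : ∀ i, ν (b i) = b' i)
    (hνz : ∀ x, ν (z x) = z' x) : U.Rel (k.comp φ) A' b' z' := by
  obtain ⟨μ, hμ, hμb, hμz⟩ := h
  refine ⟨ν.comp μ, fun r => ?_, fun i => ?_, fun x => ?_⟩
  · show ν (μ (algebraMap U.R₁ U.A₁ r)) = _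
    rw [hμ, hν]
    rfl
  · show ν (μ (U.β₁ i)) = _
    rw [hμb, hνb]
  · show ν (μ (U.pt x)) = _
    rw [hμz, hνz]

variable (U)

/-- Every point of the chart has a description, universal among those of its images. -/
theorem exists_rel (φ : U.R₁ →ₐ[R] C) :
    ∃ (A : Type u) (_ : CommRing A) (_ : Algebra C A) (_ : Algebra R A) (_ : IsScalarTower R C A)
      (b : Module.Basis (Fin d) C A) (z : B →ₐ[R] A), U.Rel φ A b z ∧
      ∀ (C' : Type u) [CommRing C'] [Algebra R C'] (k : C →ₐ[R] C') (A' : Type u) [CommRing A'] [Algebra C' A']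
        [Algebra R A'] (b' : Module.Basis (Fin d) C' A') (z' : B →ₐ[R] A'), U.Rel (k.comp φ) A' b' z' →
        ∃ ν : A →+* A', (∀ c, ν (algebraMap C A c) = algebraMap C' A' (k c)) ∧ (∀ i, ν (b i) = b' i) ∧
          ∀ x, ν (z x) = z' x := by
  letI : Algebra U.R₁ C := φ.toRingHom.toAlgebra
  let A := C ⊗[U.R₁] U.A₁
  let inc : U.A₁ →+* A := (Algebra.TensorProduct.includeRight : U.A₁ →ₐ[U.R₁] A).toRingHom
  let z : B →ₐ[R] A :=
    { inc.comp U.pt.toRingHom with
      commutes' := fun r => by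
        show (1 : C) ⊗ₜ[U.R₁] U.pt (algebraMap R B r) = _
        rw [U.pt.commutes, IsScalarTower.algebraMap_apply R U.R₁ U.A₁, inc_algebraMap]
        exact congrArg (algebraMap C A) (φ.commutes r) }
  refine ⟨A, inferInstance, inferInstance, inferInstance, inferInstance,
    Algebra.TensorProduct.basis C U.β₁, z, ⟨inc, fun r => inc_algebraMap r, fun i => ?_, fun x => rfl⟩, ?_⟩
  · exact (Algebra.TensorProduct.basis_apply _ _).symm
  intro C' _ _ k A' _ _ _ b' z' ⟨μ', hμ', hμb', hμz'⟩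
  obtain ⟨ν, hν⟩ := exists_tensor_lift (P := U.R₁) ((algebraMap C' A').comp k.toRingHom) μ' fun r => hμ' r
  refine ⟨ν, fun c => ?_, fun i => ?_, fun x => ?_⟩
  · rw [Algebra.TensorProduct.algebraMap_apply, Algebra.algebraMap_self, RingHom.id_apply, hν, map_one, mul_one]
    rfl
  · rw [Algebra.TensorProduct.basis_apply, hν, map_one, one_mul, hμb']
  · exact (hν 1 _).trans (by rw [map_one, one_mul]; exact hμz' x)

variable (Γ : GrpPts R B)

/-- The characterisation of the translate of a point. -/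
def IsSmul (g : B →ₐ[R] C) (φ ψ : U.R₁ →ₐ[R] C) : Prop :=
  ∀ (A : Type u) [CommRing A] [Algebra C A] [Algebra R A] [IsScalarTower R C A]
    (b : Module.Basis (Fin d) C A) (z : B →ₐ[R] A), U.Rel φ A b z →
    U.Rel ψ A b (Γ.mul A ((IsScalarTower.toAlgHom R C A).comp g) z)

theorem existsUnique_smul (g : B →ₐ[R] C) (φ : U.R₁ →ₐ[R] C) : ∃! ψ, U.IsSmul Γ g φ ψ := by
  obtain ⟨A, _, _, _, _, b, z, hz, huniv⟩ := U.exists_rel φ
  obtain ⟨ψ, hψ, hψu⟩ := U.univ C A b (Γ.mul A ((IsScalarTower.toAlgHom R C A).comp g) z)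
  refine ⟨ψ, ?_, fun ψ' hψ' => hψu ψ' (hψ' A b z hz)⟩
  intro A' _ _ _ _ b' z' hz'
  obtain ⟨ν, hν, hνb, hνz⟩ := huniv C (AlgHom.id R C) A' b' z' (by rwa [AlgHom.id_comp])
  let νR : A →ₐ[R] A' :=
    { ν with
      commutes' := fun r => by
        show ν (algebraMap R A r) = _
        rw [IsScalarTower.algebraMap_apply R C A, hν, IsScalarTower.algebraMap_apply R C A']
        rfl }
  have hψR : U.Rel ψ A b (Γ.mul A ((IsScalarTower.toAlgHom R C A).comp g) z) := hψ
  have h := hψR.map (AlgHom.id R C) ν hν hνb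
    (z' := Γ.mul A' ((IsScalarTower.toAlgHom R C A').comp g) z') fun x => by
      refine (DFunLike.congr_fun (Γ.mul_nat A A' νR _ z) x).trans ?_
      congr 2
      · exact AlgHom.ext fun y => hν (g y)
      · exact AlgHom.ext hνz
  rwa [AlgHom.id_comp] at h

/-- The translate of a point. -/
def smul (g : B →ₐ[R] C) (φ : U.R₁ →ₐ[R] C) : U.R₁ →ₐ[R] C := (U.existsUnique_smul Γ g φ).choose

theorem isSmul_smul (g : B →ₐ[R] C) (φ : U.R₁ →ₐ[R] C) : U.IsSmul Γ g φ (U.smul Γ g φ) :=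
  (U.existsUnique_smul Γ g φ).choose_spec.1

theorem eq_smul {g : B →ₐ[R] C} {φ ψ : U.R₁ →ₐ[R] C} (h : U.IsSmul Γ g φ ψ) : ψ = U.smul Γ g φ :=
  (U.existsUnique_smul Γ g φ).choose_spec.2 ψ h

theorem comp_smul (k : C →ₐ[R] C') (g : B →ₐ[R] C) (φ : U.R₁ →ₐ[R] C) :
    k.comp (U.smul Γ g φ) = U.smul Γ (k.comp g) (k.comp φ) := by
  obtain ⟨A, _, _, _, _, b, z, hz, huniv⟩ := U.exists_rel φ
  obtain ⟨A', _, _, _, _, b', z', hz', -⟩ := U.exists_rel (k.comp φ)
  obtain ⟨ν, hν, hνb, hνz⟩ := huniv C' k A' b' z' hz'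
  let νR : A →ₐ[R] A' :=
    { ν with
      commutes' := fun r => by
        show ν (algebraMap R A r) = _
        rw [IsScalarTower.algebraMap_apply R C A, hν, AlgHom.commutes,
          IsScalarTower.algebraMap_apply R C' A'] }
  have h := (U.isSmul_smul Γ g φ A b z hz).map k ν hν hνb
    (z' := Γ.mul A' ((IsScalarTower.toAlgHom R C' A').comp (k.comp g)) z') fun x => by
      refine (DFunLike.congr_fun (Γ.mul_nat A A' νR _ z) x).trans ?_
      congr 2
      · exact AlgHom.ext fun y => hν (g y)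
      · exact AlgHom.ext hνz
  exact (U.univ C' A' b' _).unique h (U.isSmul_smul Γ _ _ A' b' z' hz')

theorem one_smul' (φ : U.R₁ →ₐ[R] C) : U.smul Γ (Γ.one C) φ = φ := by
  refine (U.eq_smul Γ fun A _ _ _ _ b z hz => ?_).symm
  rw [Γ.one_nat, Γ.one_mul]
  exact hz

theorem mul_smul' (g g' : B →ₐ[R] C) (φ : U.R₁ →ₐ[R] C) :
    U.smul Γ (Γ.mul C g g') φ = U.smul Γ g (U.smul Γ g' φ) := by
  refine (U.eq_smul Γ fun A _ _ _ _ b z hz => ?_).symm
  rw [Γ.mul_nat, Γ.mul_assoc]
  exact U.isSmul_smul Γ g _ A b _ (U.isSmul_smul Γ g' φ A b z hz)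

theorem smul_left_injective (hd : 0 < d) {g g' : B →ₐ[R] C} {φ : U.R₁ →ₐ[R] C}
    (h : U.smul Γ g φ = U.smul Γ g' φ) : g = g' := by
  obtain ⟨A, _, _, _, _, b, z, hz, -⟩ := U.exists_rel φ
  have h1 := U.isSmul_smul Γ g φ A b z hz
  rw [h] at h1
  have h2 := Γ.mul_cancel A _ _ _ (h1.z_unique (U.isSmul_smul Γ g' φ A b z hz))
  refine AlgHom.ext fun x => ?_
  have h3 : algebraMap C A (g x) = algebraMap C A (g' x) := DFunLike.congr_fun h2 x
  have h4 := congrArg (fun a => b.repr (a * b ⟨0, hd⟩) ⟨0, hd⟩) h3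
  simpa [← Algebra.smul_def] using h4

end UnivPt

end Groth.Agent.StFib.BGAtlas

end
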