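import Mathlib

/-!
# The universal free algebra of rank `d`
-/

set_option autoImplicit false
set_option linter.unusedVariables false
set_option backward.isDefEq.respectTransparency false
set_option backward.isDefEq.respectTransparency.types false

universe u

noncomputable section

namespace Groth.Agent.StFib.BGAtlas

/-- A multiplication table of a commutative algebra structure on `C ^ d`. -/
structure Tbl (C : Type u) [CommRing C] (d : ℕ) where
  c : Fin d → Fin d → Fin d → C
  e : Fin d → C
  comm : ∀ i j, c i j = c j i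
  one : ∀ j, ∑ i, e i • c i j = Pi.single j 1
  assoc : ∀ i j k, ∑ l, c i j l • c l k = ∑ l, c j k l • c i l

variable {C : Type u} [CommRing C] {d : ℕ}

/-- The algebra of a table. -/
def TAlg (t : Tbl C d) : Type u := Fin d → C

namespace TAlg

variable (t : Tbl C d)

instance : AddCommGroup (TAlg t) := inferInstanceAs (AddCommGroup (Fin d → C))

instance : Module C (TAlg t) := inferInstanceAs (Module C (Fin d → C))

/-- The standard basis. -/
def basis : Module.Basis (Fin d) C (TAlg t) := Pi.basisFun C (Fin d)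

/-- The multiplication. -/
def m : TAlg t →ₗ[C] TAlg t →ₗ[C] TAlg t :=
  (basis t).constr C fun i => (basis t).constr C fun j => (t.c i j : TAlg t)

theorem m_basis (i j : Fin d) : m t (basis t i) (basis t j) = (t.c i j : TAlg t) := by
  rw [m, Module.Basis.constr_basis, Module.Basis.constr_basis]

theorem sum_basis (x : TAlg t) : ∑ i, (x : Fin d → C) i • basis t i = x := by
  conv_rhs => rw [← (basis t).sum_repr x]
  rfl

theorem m_comm (x y : TAlg t) : m t x y = m t y x := by
  have : m t = (m t).flip := (basis t).ext fun i => (basis t).ext fun j => by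
    rw [LinearMap.flip_apply, m_basis, m_basis, t.comm]
  conv_lhs => rw [this]
  rfl

theorem m_one (y : TAlg t) : m t (t.e : TAlg t) y = y := by
  have : m t (t.e : TAlg t) = LinearMap.id := (basis t).ext fun j => by
    conv_lhs => rw [← sum_basis t (t.e : TAlg t)]
    rw [map_sum, LinearMap.sum_apply]
    simp only [map_smul, LinearMap.smul_apply, m_basis, LinearMap.id_apply]
    refine (t.one j).trans ?_
    exact (Pi.basisFun_apply C (Fin d) j).symm
  rw [this, LinearMap.id_apply]

theorem m_assoc (x y z : TAlg t) : m t (m t x y) z = m t x (m t y z) := by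
  have h3 : ∀ i j z, m t (m t (basis t i) (basis t j)) z = m t (basis t i) (m t (basis t j) z) := fun i j z => by
    have : m t (m t (basis t i) (basis t j)) = (m t (basis t i)).comp (m t (basis t j)) := (basis t).ext fun k => by
      rw [LinearMap.comp_apply, m_basis, m_basis]
      conv_lhs => rw [← sum_basis t (t.c i j : TAlg t)]
      conv_rhs => rw [← sum_basis t (t.c j k : TAlg t)]
      rw [map_sum, map_sum, LinearMap.sum_apply]
      simp only [map_smul, LinearMap.smul_apply, m_basis]
      exact t.assoc i j k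
    rw [this]; rfl
  have h2 : ∀ i y z, m t (m t (basis t i) y) z = m t (basis t i) (m t y z) := fun i y z => by
    have : ((m t).flip z).comp (m t (basis t i)) = (m t (basis t i)).comp ((m t).flip z) :=
      (basis t).ext fun j => h3 i j z
    exact LinearMap.congr_fun this y
  have : ((m t).flip z).comp ((m t).flip y) = (m t).flip (m t y z) := (basis t).ext fun i => h2 i y z
  exact LinearMap.congr_fun this x

instance : CommRing (TAlg t) :=
  { (inferInstance : AddCommGroup (TAlg t)) with
    mul := fun x y => m t x y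
    one := (t.e : TAlg t)
    mul_assoc := m_assoc t
    one_mul := m_one t
    mul_one := fun x => (m_comm t x _).trans (m_one t x)
    mul_comm := m_comm t
    left_distrib := fun x y z => map_add (m t x) y z
    right_distrib := fun x y z => LinearMap.congr_fun (map_add (m t) x y) z
    zero_mul := fun x => LinearMap.congr_fun (map_zero (m t)) x
    mul_zero := fun x => map_zero (m t x) }

instance : Algebra C (TAlg t) := Algebra.ofModule
  (fun r x y => LinearMap.congr_fun (map_smul (m t) r x) y) (fun r x y => map_smul (m t x) r y)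

theorem basis_mul (i j : Fin d) : basis t i * basis t j = (t.c i j : TAlg t) := m_basis t i j

theorem one_eq : (1 : TAlg t) = (t.e : TAlg t) := rfl

end TAlg

/-- The table of a based algebra. -/
theorem exists_tbl {A : Type u} [CommRing A] [Algebra C A] (b : Module.Basis (Fin d) C A) :
    ∃ t : Tbl C d, (∀ i j, ∑ k, t.c i j k • b k = b i * b j) ∧ ∑ k, t.e k • b k = 1 := by
  classical
  let F : (Fin d → C) →ₗ[C] A := b.equivFun.symm.toLinearMap
  have hF : ∀ v : Fin d → C, F v = ∑ k, v k • b k := fun v => b.equivFun_symm_apply v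
  have hinj : Function.Injective F := b.equivFun.symm.injective
  let c : Fin d → Fin d → Fin d → C := fun i j => b.equivFun (b i * b j)
  let e : Fin d → C := b.equivFun 1
  have hc : ∀ i j, F (c i j) = b i * b j := fun i j => b.equivFun.symm_apply_apply _
  have he : F e = 1 := b.equivFun.symm_apply_apply _
  refine ⟨⟨c, e, fun i j => hinj (by rw [hc, hc, mul_comm]), fun j => hinj ?_, fun i j k => hinj ?_⟩,
    fun i j => (hF _).symm.trans (hc i j), (hF _).symm.trans he⟩
  · rw [map_sum]
    simp only [map_smul, hc]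
    have h1 : ∑ i, e i • b i = 1 := (hF e).symm.trans he
    calc ∑ i, e i • (b i * b j) = (∑ i, e i • b i) * b j := by
          rw [Finset.sum_mul]; exact Finset.sum_congr rfl fun i _ => (smul_mul_assoc _ _ _).symm
      _ = b j := by rw [h1, one_mul]
      _ = F (Pi.single j 1) := by
          rw [hF, Finset.sum_eq_single j (fun k _ hk => by simp [Pi.single_eq_of_ne hk]) (by simp)]
          simp
  · rw [map_sum, map_sum]
    simp only [map_smul, hc]
    calc ∑ l, c i j l • (b l * b k) = (∑ l, c i j l • b l) * b k := by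
          rw [Finset.sum_mul]; exact Finset.sum_congr rfl fun l _ => (smul_mul_assoc _ _ _).symm
      _ = b i * (b j * b k) := by rw [← hF, hc, mul_assoc]
      _ = b i * ∑ l, c j k l • b l := by rw [← hF, hc]
      _ = ∑ l, c j k l • (b i * b l) := by
          rw [Finset.mul_sum]; exact Finset.sum_congr rfl fun l _ => mul_smul_comm _ _ _

variable (R : Type u) [CommRing R] (d)

/-- The universal algebra which is free of rank `d` with a basis. -/
theorem exists_univAlg :
    ∃ (R₀ : Type u) (_ : CommRing R₀) (_ : Algebra R R₀) (A₀ : Type u) (_ : CommRing A₀) (_ : Algebra R₀ A₀)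
      (β : Module.Basis (Fin d) R₀ A₀), Algebra.FinitePresentation R R₀ ∧
      ∀ (C : Type u) [CommRing C] [Algebra R C] (A : Type u) [CommRing A] [Algebra C A]
        (b : Module.Basis (Fin d) C A),
        ∃! φ : R₀ →ₐ[R] C, ∃ μ : A₀ →+* A,
          (∀ r, μ (algebraMap R₀ A₀ r) = algebraMap C A (φ r)) ∧ ∀ i, μ (β i) = b i := by
  classical
  let V := (Fin d × Fin d × Fin d) ⊕ Fin d
  let P := MvPolynomial V R
  let cP : Fin d → Fin d → Fin d → P := fun i j k => MvPolynomial.X (Sum.inl (i, j, k))
  let eP : Fin d → P := fun i => MvPolynomial.X (Sum.inr i)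
  let r₁ : Fin d × Fin d × Fin d → P := fun q => cP q.1 q.2.1 q.2.2 - cP q.2.1 q.1 q.2.2
  let r₂ : Fin d × Fin d → P := fun q => (∑ i, eP i • cP i q.1) q.2 - (Pi.single q.1 (1 : P) : Fin d → P) q.2
  let r₃ : Fin d × Fin d × Fin d × Fin d → P := fun q =>
    (∑ l, cP q.1 q.2.1 l • cP l q.2.2.1) q.2.2.2 - (∑ l, cP q.2.1 q.2.2.1 l • cP q.1 l) q.2.2.2
  let I : Ideal P := Ideal.span (Set.range r₁ ∪ Set.range r₂ ∪ Set.range r₃)
  let π : P →ₐ[R] P ⧸ I := Ideal.Quotient.mkₐ R I
  have hI : ∀ x ∈ Set.range r₁ ∪ Set.range r₂ ∪ Set.range r₃, π x = 0 := fun x hx =>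
    Ideal.Quotient.eq_zero_iff_mem.2 (Ideal.subset_span hx)
  let t : Tbl (P ⧸ I) d :=
    { c := fun i j k => π (cP i j k)
      e := fun i => π (eP i)
      comm := fun i j => funext fun k => sub_eq_zero.1 (by
        rw [← map_sub]; exact hI _ (Or.inl (Or.inl ⟨(i, j, k), rfl⟩)))
      one := fun j => funext fun k => by
        have h := hI _ (Or.inl (Or.inr ⟨(j, k), rfl⟩))
        simp only [r₂, map_sub, Finset.sum_apply, Pi.smul_apply, smul_eq_mul, map_sum, map_mul,
          sub_eq_zero] at h
        simp only [Finset.sum_apply, Pi.smul_apply, smul_eq_mul]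
        rw [h, Pi.single_apply, Pi.single_apply, apply_ite π, map_one, map_zero]
      assoc := fun i j k => funext fun l => by
        have h := hI _ (Or.inr ⟨(i, j, k, l), rfl⟩)
        simp only [r₃, map_sub, Finset.sum_apply, Pi.smul_apply, smul_eq_mul, map_sum, map_mul,
          sub_eq_zero] at h
        simp only [Finset.sum_apply, Pi.smul_apply, smul_eq_mul]
        exact h }
  refine ⟨P ⧸ I, inferInstance, inferInstance, TAlg t, inferInstance, inferInstance, TAlg.basis t, ?_, ?_⟩
  · exact Algebra.FinitePresentation.quotient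
      (Submodule.fg_span (((Set.finite_range _).union (Set.finite_range _)).union (Set.finite_range _)))
  intro C _ _ A _ _ b
  obtain ⟨s, hs, hs1⟩ := exists_tbl b
  let v : P →ₐ[R] C := MvPolynomial.aeval (Sum.elim (fun q => s.c q.1 q.2.1 q.2.2) s.e)
  have vc : ∀ i j k, v (cP i j k) = s.c i j k := fun i j k => MvPolynomial.aeval_X _ _
  have ve : ∀ i, v (eP i) = s.e i := fun i => MvPolynomial.aeval_X _ _
  have hv : ∀ x ∈ I, v x = 0 := fun x hx => by
    refine (Ideal.span_le (I := RingHom.ker v)).2 ?_ hx
    rintro _ ((⟨q, rfl⟩ | ⟨q, rfl⟩) | ⟨q, rfl⟩) <;> show v _ = 0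
    · rw [map_sub, vc, vc, s.comm, sub_self]
    · simp only [r₂, map_sub, Finset.sum_apply, Pi.smul_apply, smul_eq_mul, map_sum, map_mul, ve, vc,
        Pi.single_apply, apply_ite v, map_one, map_zero, sub_eq_zero]
      simpa only [Finset.sum_apply, Pi.smul_apply, smul_eq_mul, Pi.single_apply] using congrFun (s.one q.1) q.2
    · simp only [r₃, map_sub, Finset.sum_apply, Pi.smul_apply, smul_eq_mul, map_sum, map_mul, vc, sub_eq_zero]
      simpa only [Finset.sum_apply, Pi.smul_apply, smul_eq_mul] using congrFun (s.assoc q.1 q.2.1 q.2.2.1) q.2.2.2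
  let φ : P ⧸ I →ₐ[R] C := Ideal.Quotient.liftₐ I v hv
  have φc : ∀ i j k, φ (t.c i j k) = s.c i j k := fun i j k => vc i j k
  have φe : ∀ i, φ (t.e i) = s.e i := fun i => ve i
  -- the semilinear map
  let μ₀ : TAlg t → A := fun x => ∑ i, φ ((x : Fin d → P ⧸ I) i) • b i
  have μadd : ∀ x y, μ₀ (x + y) = μ₀ x + μ₀ y := fun x y => by
    simp only [μ₀, ← Finset.sum_add_distrib, ← add_smul, ← map_add]; rfl
  let μa : TAlg t →+ A := AddMonoidHom.mk' μ₀ μadd
  have μsmul : ∀ (r : P ⧸ I) (x : TAlg t), μa (r • x) = φ r • μa x := fun r x => by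
    show μ₀ (r • x) = φ r • μ₀ x
    simp only [μ₀, Finset.smul_sum, smul_smul, ← map_mul]
    exact Finset.sum_congr rfl fun i _ => rfl
  have μbasis : ∀ i, μa (TAlg.basis t i) = b i := fun i => by
    show μ₀ _ = _
    simp only [μ₀]
    rw [Finset.sum_eq_single i (fun k _ hk => ?_) (by simp)]
    · rw [show (TAlg.basis t i : Fin d → P ⧸ I) i = 1 from
        (congrFun (Pi.basisFun_apply (P ⧸ I) (Fin d) i) i).trans (Pi.single_eq_same _ _), map_one, one_smul]
    · rw [show (TAlg.basis t i : Fin d → P ⧸ I) k = 0 from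
        (congrFun (Pi.basisFun_apply (P ⧸ I) (Fin d) i) k).trans (Pi.single_eq_of_ne hk _), map_zero, zero_smul]
  have μone : μa 1 = 1 := by
    show μ₀ _ = _
    simp only [μ₀, TAlg.one_eq, φe]
    exact hs1
  have hsm : ∀ (a a' : P ⧸ I) (x y : TAlg t), (a • x) * (a' • y) = (a * a') • (x * y) := fun a a' x y => by
    rw [Algebra.smul_def, Algebra.smul_def, Algebra.smul_def, map_mul, mul_mul_mul_comm]
  have μmul : ∀ x y, μa (x * y) = μa x * μa y := fun x y => by
    conv_lhs => rw [← TAlg.sum_basis t x, ← TAlg.sum_basis t y, Finset.sum_mul_sum]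
    conv_rhs => rw [← TAlg.sum_basis t x, ← TAlg.sum_basis t y, map_sum, map_sum, Finset.sum_mul_sum]
    simp only [map_sum, hsm, smul_mul_smul_comm, μsmul, map_mul, μbasis]
    refine Finset.sum_congr rfl fun i _ => Finset.sum_congr rfl fun j _ => ?_
    rw [TAlg.basis_mul]
    congr 1
    show μ₀ _ = _
    simp only [μ₀, φc]
    exact hs i j
  let μ : TAlg t →+* A := { μa with map_one' := μone, map_mul' := μmul, map_zero' := μa.map_zero }
  have μalg : ∀ r, μ (algebraMap (P ⧸ I) (TAlg t) r) = algebraMap C A (φ r) := fun r => by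
    rw [Algebra.algebraMap_eq_smul_one]
    show μa _ = _
    rw [μsmul, μone, ← Algebra.algebraMap_eq_smul_one]
  refine ⟨φ, ⟨μ, μalg, μbasis⟩, fun ψ hψ => ?_⟩
  obtain ⟨ν, hν, hνb⟩ := hψ
  have νsum : ∀ x : TAlg t, ν x = ∑ i, ψ ((x : Fin d → P ⧸ I) i) • b i := fun x => by
    conv_lhs => rw [← TAlg.sum_basis t x, map_sum]
    refine Finset.sum_congr rfl fun i _ => ?_
    refine (congrArg ν (Algebra.smul_def ((x : Fin d → P ⧸ I) i) (TAlg.basis t i))).trans ?_
    rw [map_mul, hν, hνb, ← Algebra.smul_def]
  have hrepr : ∀ (x : TAlg t) (y : Fin d → C), ν x = ∑ i, y i • b i →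
      ∀ k, ψ ((x : Fin d → P ⧸ I) k) = y k := fun x y h k => by
    rw [νsum, ← b.equivFun_symm_apply, ← b.equivFun_symm_apply] at h
    exact congrFun (b.equivFun.symm.injective h) k
  refine Ideal.Quotient.algHom_ext R (MvPolynomial.algHom_ext fun q => ?_)
  show ψ (π (MvPolynomial.X q)) = φ (π (MvPolynomial.X q))
  rcases q with ⟨i, j, k⟩ | i
  · refine (hrepr (t.c i j : TAlg t) (s.c i j) ?_ k).trans (φc i j k).symm
    rw [← TAlg.basis_mul, map_mul, hνb, hνb]
    exact (hs i j).symm
  · refine (hrepr (t.e : TAlg t) s.e ?_ i).trans (φe i).symm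
    rw [← TAlg.one_eq, map_one]
    exact hs1.symm

end Groth.Agent.StFib.BGAtlas

end
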