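import Groth.Agent.StFib.BGAtlas.Table
import Groth.Agent.HomSch.Weil

/-!
# The universal based finite free algebra with a point
-/

set_option autoImplicit false
set_option linter.unusedVariables false
set_option linter.style.haveILetI false
set_option backward.isDefEq.respectTransparency false
set_option backward.isDefEq.respectTransparency.types false

universe u

open TensorProduct

noncomputable section

namespace Groth.Agent.StFib.BGAtlas

/-- The universal family of based free algebras of rank `d` with a `B`-point: a table ring `R₀` with its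
algebra `A₀`, and over it the ring `R₁` of `B`-points of `A₀`. -/
structure UnivPt (R B : Type u) [CommRing R] [CommRing B] [Algebra R B] (d : ℕ) where
  R₀ : Type u
  [cR₀ : CommRing R₀]
  [aR₀ : Algebra R R₀]
  A₀ : Type u
  [cA₀ : CommRing A₀]
  [aA₀ : Algebra R₀ A₀]
  β : Module.Basis (Fin d) R₀ A₀
  fp₀ : Algebra.FinitePresentation R R₀
  univ₀ : ∀ (C : Type u) [CommRing C] [Algebra R C] (A : Type u) [CommRing A] [Algebra C A]
    (b : Module.Basis (Fin d) C A), ∃! φ : R₀ →ₐ[R] C, ∃ μ : A₀ →+* A,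
      (∀ r, μ (algebraMap R₀ A₀ r) = algebraMap C A (φ r)) ∧ ∀ i, μ (β i) = b i
  R₁ : Type u
  [cR₁ : CommRing R₁]
  [a₀R₁ : Algebra R₀ R₁]
  [aR₁ : Algebra R R₁]
  [tower : IsScalarTower R R₀ R₁]
  fp₁ : Algebra.FinitePresentation R₀ R₁
  pt : B →ₐ[R] R₁ ⊗[R₀] A₀
  univ₁ : ∀ (T : Type u) [CommRing T] [Algebra R₀ T] [Algebra R T] [IsScalarTower R R₀ T]
    (f : B →ₐ[R] T ⊗[R₀] A₀), ∃! φ : R₁ →ₐ[R₀] T,
      ∀ b, Algebra.TensorProduct.map φ (AlgHom.id R₀ A₀) (pt b) = f b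

attribute [instance] UnivPt.cR₀ UnivPt.aR₀ UnivPt.cA₀ UnivPt.aA₀ UnivPt.cR₁ UnivPt.a₀R₁ UnivPt.aR₁
  UnivPt.tower

theorem nonempty_univPt (R B : Type u) [CommRing R] [CommRing B] [Algebra R B]
    [Algebra.FinitePresentation R B] (d : ℕ) : Nonempty (UnivPt R B d) := by
  obtain ⟨R₀, _, _, A₀, _, _, β, hfp, huniv⟩ := exists_univAlg d R
  have : Module.Free R₀ A₀ := Module.Free.of_basis β
  have : Module.Finite R₀ A₀ := Module.Finite.of_basis β
  let Cc := R₀ ⊗[R] B
  obtain ⟨W, _, _, Φ, hΦ, -, hWfp⟩ := Groth.Agent.HomSch.exists_weil R₀ A₀ Cc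
  letI : Algebra R W := ((algebraMap R₀ W).comp (algebraMap R R₀)).toAlgebra
  haveI : IsScalarTower R R₀ W := IsScalarTower.of_algebraMap_eq fun _ => rfl
  let pt : B →ₐ[R] W ⊗[R₀] A₀ := (Φ.restrictScalars R).comp Algebra.TensorProduct.includeRight
  refine ⟨{ R₀ := R₀, A₀ := A₀, β := β, fp₀ := hfp, univ₀ := huniv, R₁ := W,
            fp₁ := hWfp inferInstance, pt := pt, univ₁ := fun T _ _ _ _ f => ?_ }⟩
  let f' : Cc →ₐ[R₀] T ⊗[R₀] A₀ :=
    Algebra.TensorProduct.lift (Algebra.ofId R₀ _) f fun _ _ => Commute.all _ _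
  obtain ⟨φ, hφ, hφu⟩ := hΦ T f'
  refine ⟨φ, fun b => ?_, fun ψ hψ => hφu ψ ?_⟩
  · refine (DFunLike.congr_fun hφ ((1 : R₀) ⊗ₜ[R] b)).trans ?_
    refine (Algebra.TensorProduct.lift_tmul _ _ _ _ _).trans ?_
    rw [map_one, one_mul]
  · refine Algebra.TensorProduct.ext (AlgHom.ext fun r => ?_) (AlgHom.ext fun b => ?_)
    · exact (AlgHom.commutes _ r).trans (AlgHom.commutes f' r).symm
    · refine (hψ b).trans (Eq.symm ?_)
      show f' ((1 : R₀) ⊗ₜ[R] b) = f b
      refine (Algebra.TensorProduct.lift_tmul (Algebra.ofId R₀ (T ⊗[R₀] A₀)) f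
        (fun _ _ => Commute.all _ _) 1 b).trans ?_
      rw [map_one, one_mul]

namespace UnivPt

variable {R B : Type u} [CommRing R] [CommRing B] [Algebra R B] {d : ℕ} (U : UnivPt R B d)

/-- The universal algebra over `R₁`. -/
abbrev A₁ : Type u := U.R₁ ⊗[U.R₀] U.A₀

/-- Its basis. -/
def β₁ : Module.Basis (Fin d) U.R₁ U.A₁ := Algebra.TensorProduct.basis U.R₁ U.β

theorem β₁_apply (i : Fin d) : U.β₁ i = (1 : U.R₁) ⊗ₜ[U.R₀] U.β i := Algebra.TensorProduct.basis_apply _ _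

theorem fpR₁ : Algebra.FinitePresentation R U.R₁ := by
  haveI := U.fp₀
  haveI := U.fp₁
  exact Algebra.FinitePresentation.trans R U.R₀ U.R₁

/-- The universal property in one step. -/
theorem univ (C : Type u) [CommRing C] [Algebra R C] (A : Type u) [CommRing A] [Algebra C A]
    [Algebra R A] [IsScalarTower R C A] (b : Module.Basis (Fin d) C A) (z : B →ₐ[R] A) :
    ∃! φ : U.R₁ →ₐ[R] C, ∃ μ : U.A₁ →+* A,
      (∀ r, μ (algebraMap U.R₁ U.A₁ r) = algebraMap C A (φ r)) ∧ (∀ i, μ (U.β₁ i) = b i) ∧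
        ∀ x, μ (U.pt x) = z x := by
  obtain ⟨φ₀, ⟨μ₀, hμ₀, hμ₀b⟩, hφ₀u⟩ := U.univ₀ C A b
  letI : Algebra U.R₀ C := φ₀.toRingHom.toAlgebra
  haveI : IsScalarTower R U.R₀ C := IsScalarTower.of_algebraMap_eq fun r => (φ₀.commutes r).symm
  letI : Algebra U.R₀ A := ((algebraMap C A).comp (algebraMap U.R₀ C)).toAlgebra
  haveI : IsScalarTower U.R₀ C A := IsScalarTower.of_algebraMap_eq fun _ => rfl
  let m₀ : U.A₀ →ₐ[U.R₀] A := { μ₀ with commutes' := hμ₀ }
  let ι : C ⊗[U.R₀] U.A₀ →ₐ[C] A :=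
    Algebra.TensorProduct.lift (Algebra.ofId C A) m₀ fun _ _ => Commute.all _ _
  have hιt : ∀ c a, ι (c ⊗ₜ a) = algebraMap C A c * μ₀ a := fun c a =>
    Algebra.TensorProduct.lift_tmul _ _ _ c a
  have hι : Function.Bijective ι := by
    have e : ι.toLinearMap = ((Algebra.TensorProduct.basis C U.β).equiv b (Equiv.refl _)).toLinearMap :=
      (Algebra.TensorProduct.basis C U.β).ext fun i => by
        rw [LinearEquiv.coe_coe, Module.Basis.equiv_apply, Algebra.TensorProduct.basis_apply]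
        exact (hιt 1 _).trans (by rw [map_one, one_mul, hμ₀b]; rfl)
    have hcoe := congrArg DFunLike.coe e
    rw [show (ι : C ⊗[U.R₀] U.A₀ → A) = _ from hcoe]
    exact ((Algebra.TensorProduct.basis C U.β).equiv b (Equiv.refl _)).bijective
  let ιe := AlgEquiv.ofBijective ι hι
  have haR : IsScalarTower R C (C ⊗[U.R₀] U.A₀) := IsScalarTower.of_algebraMap_eq fun r => rfl
  obtain ⟨φ, hφ, hφu⟩ := U.univ₁ C ((ιe.symm.toAlgHom.restrictScalars R).comp z)
  let μ : U.A₁ →+* A := (ι.toRingHom).comp (Algebra.TensorProduct.map φ (AlgHom.id U.R₀ U.A₀)).toRingHom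
  refine ⟨φ.restrictScalars R, ⟨μ, fun r => ?_, fun i => ?_, fun x => ?_⟩, fun ψ hψ => ?_⟩
  · show ι (Algebra.TensorProduct.map φ _ (r ⊗ₜ 1)) = _
    rw [Algebra.TensorProduct.map_tmul, hιt, map_one, map_one, mul_one]
    rfl
  · show ι (Algebra.TensorProduct.map φ _ (U.β₁ i)) = _
    rw [β₁_apply, Algebra.TensorProduct.map_tmul, hιt, map_one, map_one, one_mul]
    exact hμ₀b i
  · show ι (Algebra.TensorProduct.map φ _ (U.pt x)) = _
    rw [hφ x]
    exact ιe.apply_symm_apply _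
  · obtain ⟨ν, hν, hνb, hνp⟩ := hψ
    have hψ₀ : ψ.comp (IsScalarTower.toAlgHom R U.R₀ U.R₁) = φ₀ := hφ₀u _
      ⟨ν.comp (Algebra.TensorProduct.includeRight : U.A₀ →ₐ[U.R₀] U.A₁).toRingHom, fun r => by
        show ν ((1 : U.R₁) ⊗ₜ[U.R₀] algebraMap U.R₀ U.A₀ r) = _
        have e3 : algebraMap U.R₁ U.A₁ (algebraMap U.R₀ U.R₁ r) = (1 : U.R₁) ⊗ₜ[U.R₀] algebraMap U.R₀ U.A₀ r := by
          rw [Algebra.TensorProduct.algebraMap_apply, Algebra.algebraMap_self, RingHom.id_apply,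
            Algebra.algebraMap_eq_smul_one, Algebra.algebraMap_eq_smul_one, TensorProduct.smul_tmul]
        rw [← e3, hν]
        rfl, fun i => by
        show ν ((1 : U.R₁) ⊗ₜ[U.R₀] U.β i) = _
        rw [← β₁_apply, hνb]⟩
    let ψ' : U.R₁ →ₐ[U.R₀] C := { ψ.toRingHom with commutes' := fun r => DFunLike.congr_fun hψ₀ r }
    have e1 : ψ' = φ := hφu ψ' fun x => ιe.injective (by
      show ι _ = ιe (ιe.symm (z x))
      rw [AlgEquiv.apply_symm_apply, ← hνp x]
      have key : ∀ y : U.A₁, ι (Algebra.TensorProduct.map ψ' (AlgHom.id U.R₀ U.A₀) y) = ν y := fun y => by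
        induction y using TensorProduct.induction_on with
        | zero => simp
        | add y y' h h' => simp only [map_add, h, h']
        | tmul r a =>
          rw [Algebra.TensorProduct.map_tmul, hιt]
          show algebraMap C A (ψ r) * μ₀ a = ν (r ⊗ₜ a)
          rw [show r ⊗ₜ[U.R₀] a = algebraMap U.R₁ U.A₁ r * (1 ⊗ₜ a) from by simp, map_mul, hν]
          congr 1
          rw [← U.β.sum_repr a, map_sum, TensorProduct.tmul_sum, map_sum]
          refine Finset.sum_congr rfl fun i _ => ?_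
          rw [Algebra.smul_def, map_mul, hμ₀, hμ₀b, ← Algebra.smul_def (U.β.repr a i) (U.β i),
            ← TensorProduct.smul_tmul, show (U.β.repr a i • (1 : U.R₁)) ⊗ₜ[U.R₀] U.β i =
              algebraMap U.R₁ U.A₁ (algebraMap U.R₀ U.R₁ (U.β.repr a i)) * U.β₁ i from by
                rw [β₁_apply, Algebra.smul_def]; simp,
            map_mul, hν, hνb]
          congr 2
          exact (DFunLike.congr_fun hψ₀ _).symm
      exact key _)
    exact AlgHom.ext fun r => (DFunLike.congr_fun e1 r : ψ' r = φ r)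

end UnivPt

end Groth.Agent.StFib.BGAtlas

end
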